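import Groth.Agent.AlgSp2.UnramMono
import Groth.Agent.AlgSpRep.Basic
import Groth.Agent.AlgSpBasic.LocP
import Groth.Agent.AlgSpBasic.LocPInst

/-!
# Covers by schemes that are representable by algebraic spaces are representable by schemes
-/

set_option autoImplicit false
set_option backward.isDefEq.respectTransparency false
set_option backward.isDefEq.respectTransparency.types false

universe u

open CategoryTheory CategoryTheory.Limits AlgebraicGeometry Opposite AlgSp

noncomputable section

namespace Groth.FppfBoot

open Groth.AlgSpBasic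

variable {S : Scheme.{u}}

/-- An algebraic space with a monomorphism, locally of finite type, to a scheme is a scheme. -/
theorem exists_iso_of_mono_lft {Z : Sp S} (hZ : IsAlgSpace Z) {B : Over S} (m : Z ⟶ (yon S).obj B)
    [Mono m] (hl : LocP @LocallyOfFiniteType m) : ∃ G : Over S, Nonempty ((yon S).obj G ≅ Z) := by
  obtain ⟨hrep, -, -⟩ := Groth.AlgSp2.representable_of_mono_lft hZ (IsAlgSpace.yon_obj B) hl
  obtain ⟨G, snd, fst, sq⟩ := hrep (𝟙 _)
  have : IsIso fst := sq.isIso_fst_of_isIso
  exact ⟨G, ⟨asIso fst⟩⟩

/-- A flat, locally finitely presented map from a scheme which is representable by algebraic spaces is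
representable by schemes. -/
theorem repWith_of_repBySpWith {F : Sp S} {V : Over S} (p : (yon S).obj V ⟶ F)
    (hp : RepBySpWith (LocP @Flat ⊓ LocP @LocallyOfFinitePresentation) p.hom) :
    RepWith (@Flat ⊓ @LocallyOfFinitePresentation) p := by
  have key : ∀ {T : Over S} (g : (yon S).obj T ⟶ F), ∃ (G : Over S) (fst : (yon S).obj G ⟶ (yon S).obj V)
      (snd : G ⟶ T), IsPullback fst ((yon S).map snd) p g ∧
        (@Flat ⊓ @LocallyOfFinitePresentation : MorphismProperty Scheme.{u}) snd.left := by
    intro T g
    have sq := IsPullback.of_hasPullback p g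
    obtain ⟨h, hA, hf, hl⟩ := hp g.hom (pullback.fst p g).hom (pullback.snd p g).hom
      (sq.map (sheafToPresheaf (J S) (Type (u + 1))))
    have hA' : IsAlgSpace (pullback p g) := hA
    have hf' : LocP @Flat (pullback.snd p g) := hf
    have hl' : LocP @LocallyOfFinitePresentation (pullback.snd p g) := hl
    let m : pullback p g ⟶ (yon S).obj (V ⨯ T) :=
      prod.lift (pullback.fst p g) (pullback.snd p g) ≫ inv (prodComparison (yon S) _ _)
    have hm₁ : m ≫ (yon S).map prod.fst = pullback.fst _ _ := by
      rw [Category.assoc, ← prodComparison_fst, IsIso.inv_hom_id_assoc, prod.lift_fst]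
    have hm₂ : m ≫ (yon S).map prod.snd = pullback.snd _ _ := by
      rw [Category.assoc, ← prodComparison_snd, IsIso.inv_hom_id_assoc, prod.lift_snd]
    have : Mono m := ⟨fun a b e => by
      refine pullback.hom_ext ?_ ?_
      · rw [← hm₁, ← Category.assoc, e, Category.assoc]
      · rw [← hm₂, ← Category.assoc, e, Category.assoc]⟩
    have hm : LocP @LocallyOfFiniteType m :=
      locP_of_comp_of_cancel (fun _ _ _ a b (hab : LocallyOfFiniteType (a ≫ b)) =>
        locallyOfFiniteType_of_comp a b) hA' (IsAlgSpace.yon_obj _) (IsAlgSpace.yon_obj T)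
        (g := (yon S).map prod.snd)
        (hm₂.symm ▸ locP_mono (fun _ _ k (hk : LocallyOfFinitePresentation k) =>
          (inferInstance : LocallyOfFiniteType k)) hl')
    obtain ⟨G, ⟨e⟩⟩ := exists_iso_of_mono_lft hA' m hm
    obtain ⟨snd, hsnd⟩ := (yon S).map_surjective (e.hom ≫ pullback.snd p g)
    refine ⟨G, e.hom ≫ pullback.fst p g, snd, ?_, ?_⟩
    · exact sq.of_iso e.symm (Iso.refl _) (Iso.refl _) (Iso.refl _) (by simp) (by simp [hsnd])
        (by simp) (by simp)
    · have aux : ∀ (P : MorphismProperty Scheme.{u}) [EtaleLocal P],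
          LocP P (pullback.snd p g) → P snd.left := fun P _ hP =>
        hP e.hom (𝟙 _) snd (repWith_isIso _) (repWith_id _ T) (by rw [Category.comp_id, hsnd])
      exact ⟨aux _ hf', aux _ hl'⟩
  exact repWith_of_exists fun T g => by
    obtain ⟨G, fst, snd, sq, h⟩ := key g
    exact ⟨G, fst, snd, sq, h⟩

end Groth.FppfBoot
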