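import Groth.Agent.FppfBoot.SliceStep
import Mathlib

/-!
# Affine bookkeeping for slicing
-/

set_option autoImplicit false
set_option backward.isDefEq.respectTransparency false
set_option backward.isDefEq.respectTransparency.types false

universe u

open CategoryTheory CategoryTheory.Limits AlgebraicGeometry

namespace Groth.FppfBoot

/-- `B / xB` is the pushout of `A ⟶ A / g` along `A ⟶ B`. -/
theorem isPushout_span_singleton {A B : Type u} [CommRing A] [CommRing B] (φ : A →+* B) (g : A) :
    ∃ φ' : A ⧸ Ideal.span {g} →+* B ⧸ Ideal.span {φ g},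
      IsPushout (CommRingCat.ofHom φ) (CommRingCat.ofHom (Ideal.Quotient.mk (Ideal.span {g})))
        (CommRingCat.ofHom (Ideal.Quotient.mk (Ideal.span {φ g}))) (CommRingCat.ofHom φ') := by
  have hle : Ideal.span {g} ≤ (Ideal.span {φ g}).comap φ := by
    rw [Ideal.span_singleton_le_iff_mem, Ideal.mem_comap]
    exact Ideal.mem_span_singleton_self _
  refine ⟨Ideal.quotientMap _ φ hle, IsPushout.of_isColimit' ⟨rfl⟩ (PushoutCocone.IsColimit.mk _
    (fun s => CommRingCat.ofHom (Ideal.Quotient.lift _ s.inl.hom (fun b hb => ?_)))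
    (fun s => ?_) (fun s => ?_) fun s m hm₁ hm₂ => ?_)⟩
  · obtain ⟨c, rfl⟩ := Ideal.mem_span_singleton'.mp hb
    rw [map_mul]
    have h := congr($(s.condition) g)
    refine mul_eq_zero_of_right _ (Eq.trans h ?_)
    change s.inr.hom (Ideal.Quotient.mk _ g) = 0
    rw [Ideal.Quotient.eq_zero_iff_mem.2 (Ideal.mem_span_singleton_self _), map_zero]
  · ext b; rfl
  · ext a
    exact congr($(s.condition) a)
  · ext b
    exact congr($(hm₁) b)

/-- The quotient by one element is of finite presentation. -/
theorem locallyOfFinitePresentation_quotient {A : Type u} [CommRing A] (g : A) :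
    LocallyOfFinitePresentation (Spec.map (CommRingCat.ofHom (Ideal.Quotient.mk (Ideal.span {g})))) := by
  rw [HasRingHomProperty.Spec_iff (P := @LocallyOfFinitePresentation), CommRingCat.hom_ofHom]
  refine RingHom.FinitePresentation.of_surjective _ Ideal.Quotient.mk_surjective ?_
  rw [Ideal.mk_ker]
  exact ⟨{g}, by simp⟩

/-- Quasi-finiteness at a prime, in terms of the morphism of spectra. -/
theorem quasiFiniteAt_specMap {R S : CommRingCat.{u}} (φ : R ⟶ S) (x : PrimeSpectrum S)
    (h : φ.hom.QuasiFiniteAt x.asIdeal) : (Spec.map φ).QuasiFiniteAt x := by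
  algebraize [φ.hom]
  have h' : Algebra.QuasiFiniteAt R x.asIdeal := h
  let := Localization.AtPrime.algebraOfLiesOver (x.asIdeal.under R) x.asIdeal
  have : Algebra.QuasiFinite (Localization.AtPrime (x.asIdeal.under R))
      (Localization.AtPrime x.asIdeal) := .of_restrictScalars R _ _
  rw [← RingHom.quasiFinite_algebraMap] at this
  exact (RingHom.QuasiFinite.respectsIso.arrow_mk_iso_iff (Scheme.arrowStalkMapSpecIso ..)).mpr this

/-- Flatness at a point of a quotient by one element, in terms of the morphism of spectra. -/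
theorem flat_stalkMap_quotient {A B : CommRingCat.{u}} (α : A ⟶ B) (x : B) (Q : PrimeSpectrum B)
    (h : letI := α.hom.toAlgebra
      Module.Flat A (LocalizedModule Q.asIdeal.primeCompl (B ⧸ LinearMap.range (LinearMap.lsmul B B x))))
    (q : PrimeSpectrum (B ⧸ Ideal.span {x})) (hq : q.comap (Ideal.Quotient.mk _) = Q) :
    ((Spec.map (α ≫ CommRingCat.ofHom (Ideal.Quotient.mk (Ideal.span {x})))).stalkMap q).hom.Flat := by
  algebraize [α.hom]
  let C := B ⧸ Ideal.span {x}
  have hQ : Algebra.algebraMapSubmonoid C Q.asIdeal.primeCompl = q.asIdeal.primeCompl := by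
    subst hq
    ext c
    obtain ⟨b, rfl⟩ := Ideal.Quotient.mk_surjective c
    refine ⟨?_, fun hb => ⟨b, hb, rfl⟩⟩
    rintro ⟨b', hb', e⟩
    exact fun hb => hb' (show Ideal.Quotient.mk _ b' ∈ q.asIdeal from e ▸ hb)
  have hl : IsLocalizedModule Q.asIdeal.primeCompl
      (IsScalarTower.toAlgHom B C (Localization.AtPrime q.asIdeal)).toLinearMap :=
    isLocalizedModule_iff_isLocalization.mpr (by rw [hQ]; infer_instance)
  have hrange : LinearMap.range (LinearMap.lsmul B B x) = Ideal.span {x} := by
    ext b
    simp [Ideal.mem_span_singleton', mul_comm x]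
  let e₀ : (B ⧸ LinearMap.range (LinearMap.lsmul B B x)) ≃ₗ[B] C := Submodule.quotEquivOfEq _ _ hrange
  have h₁ := (IsLocalizedModule.iso Q.asIdeal.primeCompl
    ((IsScalarTower.toAlgHom B C (Localization.AtPrime q.asIdeal)).toLinearMap ∘ₗ e₀.toLinearMap))
  have : Module.Flat A (Localization.AtPrime q.asIdeal) :=
    (Module.Flat.equiv_iff (h₁.restrictScalars A)).mp h
  let := Localization.AtPrime.algebraOfLiesOver (q.asIdeal.under A) q.asIdeal
  have : Module.Flat (Localization.AtPrime (q.asIdeal.under A)) (Localization.AtPrime q.asIdeal) :=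
    (Module.flat_iff_of_isLocalization (Localization.AtPrime (q.asIdeal.under A))
      (q.asIdeal.under A).primeCompl _).mpr ‹_›
  rw [← RingHom.flat_algebraMap_iff] at this
  exact (RingHom.Flat.respectsIso.arrow_mk_iso_iff (Scheme.arrowStalkMapSpecIso ..)).mpr this

/-- A strictly monotone map avoiding a point below it lowers the length of chains. -/
theorem series_lt {X Y : Type*} [Preorder X] [Preorder Y] (f : X → Y) (hf : StrictMono f) (P : Y)
    (hP : ∀ x, P < f x) (n : ℕ) (hn : ∀ s : LTSeries Y, s.length ≤ n) (s : LTSeries X) :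
    s.length < n := by
  have := hn ((s.map f hf).cons P (hP _))
  simp only [RelSeries.cons_length, LTSeries.map_length] at this
  omega

/-- Chains of primes in the fibre of a finite type algebra have bounded length. -/
theorem exists_series_bound {A B : Type u} [CommRing A] [CommRing B] [Algebra A B]
    [Algebra.FiniteType A B] (p : PrimeSpectrum A) :
    ∃ n : ℕ, ∀ s : LTSeries {q : PrimeSpectrum B // q.comap (algebraMap A B) = p}, s.length ≤ n := by
  obtain ⟨ι, _, f, hf⟩ := Algebra.FiniteType.iff_quotient_mvPolynomial'.mp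
    (inferInstance : Algebra.FiniteType p.asIdeal.ResidueField (p.asIdeal.Fiber B))
  refine ⟨Nat.card ι, fun s => ?_⟩
  let e := PrimeSpectrum.preimageOrderIsoFiber A B p
  let g : {q : PrimeSpectrum B // q.comap (algebraMap A B) = p} → PrimeSpectrum (MvPolynomial ι p.asIdeal.ResidueField) :=
    fun q => (e ⟨q.1, q.2⟩).comap f.toRingHom
  have hmono : Monotone g := fun a b hab => Ideal.comap_mono (e.monotone (a := ⟨a.1, a.2⟩) (b := ⟨b.1, b.2⟩) hab)
  have hinj : Function.Injective g := fun a b hab => by
    have := congrArg Subtype.val (e.injective (PrimeSpectrum.comap_injective_of_surjective _ hf hab))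
    exact Subtype.ext this
  have := Order.LTSeries.length_le_krullDim (s.map g (hmono.strictMono_of_injective hinj))
  rw [LTSeries.map_length, ← ringKrullDim, MvPolynomial.ringKrullDim_of_isNoetherianRing,
    ringKrullDim_eq_zero_of_field, zero_add] at this
  exact_mod_cast this

end Groth.FppfBoot
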