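import Groth.Agent.FppfBoot.Restrict
import Groth.Agent.FppfBoot.SpecLemmas

/-!
# Slicing a flat, locally finitely presented cover to a locally quasi-finite one
-/

set_option autoImplicit false
set_option backward.isDefEq.respectTransparency false
set_option backward.isDefEq.respectTransparency.types false

universe u

open CategoryTheory CategoryTheory.Limits AlgebraicGeometry Opposite AlgSp

noncomputable section

namespace Groth.FppfBoot

open Groth.AlgSpBasic

variable {S : Scheme.{u}} {F : Sp S} {V₀ : Over S} {p₀ : (yon S).obj V₀ ⟶ F}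

theorem locus_quasiFinite (hp₀ : RepWith (@Flat ⊓ @LocallyOfFinitePresentation) p₀) {W : Over S}
    {p : (yon S).obj W ⟶ F} (hp : RepWith @LocallyOfFinitePresentation p) :
    ∃ Wl : W.left.Opens,
      (∀ {T : Over S} (a : (yon S).obj T ⟶ F) (r : ↥(hp.rep.pullback a).left),
        (hp.rep.fst' a).left r ∈ Wl → (hp.rep.snd a).left.QuasiFiniteAt r) ∧
      ∀ ρ : ↥(hp.rep.pullback p₀).left,
        (hp.rep.snd p₀).left.QuasiFiniteAt ρ → (hp.rep.fst' p₀).left ρ ∈ Wl :=
  exists_open_of_locus hp₀ hp (fun f x => f.QuasiFiniteAt x)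
    (fun f _ => f.quasiFiniteLocus.isOpen)
    (fun sq _ x' h => (Groth.SchemeMorphisms.quasiFiniteAt_baseChange_iff _ _ _ _ sq x').mpr h)
    (fun sq _ _ x' h => (Groth.SchemeMorphisms.quasiFiniteAt_baseChange_iff _ _ _ _ sq x').mp h)

theorem locus_flat (hp₀ : RepWith (@Flat ⊓ @LocallyOfFinitePresentation) p₀) {W : Over S}
    {p : (yon S).obj W ⟶ F} (hp : RepWith @LocallyOfFinitePresentation p) :
    ∃ Wl : W.left.Opens,
      (∀ {T : Over S} (a : (yon S).obj T ⟶ F) (r : ↥(hp.rep.pullback a).left),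
        (hp.rep.fst' a).left r ∈ Wl → ((hp.rep.snd a).left.stalkMap r).hom.Flat) ∧
      ∀ ρ : ↥(hp.rep.pullback p₀).left,
        ((hp.rep.snd p₀).left.stalkMap ρ).hom.Flat → (hp.rep.fst' p₀).left ρ ∈ Wl :=
  exists_open_of_locus hp₀ hp (fun f x => (f.stalkMap x).hom.Flat)
    (fun f _ => Groth.CMMor.isOpen_flatAt f) (fun sq _ x' h => flat_bc sq x' h)
    (fun sq _ hg x' h => flat_desc sq hg x' h)

theorem injective_comap_of_comp {A B : CommRingCat.{u}} {X : Scheme.{u}} (θ : A ⟶ B) (e : Spec A ⟶ X)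
    (c : Spec B ⟶ X) (h : Spec.map θ ≫ e = c) (hc : Function.Injective c) :
    Function.Injective (PrimeSpectrum.comap θ.hom) := by
  subst h
  rw [Scheme.Hom.comp_base, TopCat.coe_comp] at hc
  exact hc.of_comp

variable [IsAffine V₀.left]

set_option maxHeartbeats 1000000 in
/-- The induction: slice until a quasi-finite point appears. -/
theorem exists_qf_of_piece (hp₀ : RepWith (@Flat ⊓ @LocallyOfFinitePresentation) p₀) (v₀ : ↥V₀.left) :
    ∀ (n : ℕ) {W : Over S} [IsAffine W.left] (p : (yon S).obj W ⟶ F)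
      (hp : RepWith (@Flat ⊓ @LocallyOfFinitePresentation) p) (B : CommRingCat.{u})
      (e : Spec B ⟶ (hp.rep.pullback p₀).left) [IsOpenImmersion e] (α : Γ(V₀.left, ⊤) ⟶ B),
      e ≫ (hp.rep.snd p₀).left ≫ V₀.left.isoSpec.hom = Spec.map α →
      (∃ q : PrimeSpectrum B, q.comap α.hom = V₀.left.isoSpec.hom v₀) →
      (∀ s : LTSeries {q : PrimeSpectrum B // q.comap α.hom = V₀.left.isoSpec.hom v₀}, s.length ≤ n) →
      ∃ (W' : Over S) (p' : (yon S).obj W' ⟶ F)
        (hp' : RepWith (@Flat ⊓ @LocallyOfFinitePresentation ⊓ @LocallyQuasiFinite) p'),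
        IsAffine W'.left ∧ ∃ r : ↥(hp'.rep.pullback p₀).left, (hp'.rep.snd p₀).left r = v₀ := by
  intro n
  induction n using Nat.strong_induction_on with
  | _ n IH =>
  intro W _ p hp B e _ α hα hne hbound
  let π₁ := (hp.rep.fst' p₀).left
  let π₂ := (hp.rep.snd p₀).left
  obtain ⟨hπflat, hπlfp⟩ : Flat π₂ ∧ LocallyOfFinitePresentation π₂ :=
    hp.property p₀ _ _ (hp.rep.isPullback p₀)
  obtain ⟨ψ, hψ⟩ : ∃ ψ : Γ(W.left, ⊤) ⟶ B, Spec.map ψ = e ≫ π₁ ≫ W.left.isoSpec.hom := Spec.map_surjective _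
  have hpt : ∀ q : PrimeSpectrum B, q.comap α.hom = V₀.left.isoSpec.hom (π₂ (e q)) := fun q => by
    change Spec.map α q = _
    rw [← hα]
    simp only [Scheme.Hom.comp_apply]
    rfl
  have hiso : Function.Injective V₀.left.isoSpec.hom :=
    V₀.left.isoSpec.hom.isOpenEmbedding.injective
  have hflα : α.hom.Flat := (HasRingHomProperty.Spec_iff (P := @Flat)).mp (hα ▸ inferInstance)
  have hfpα : α.hom.FinitePresentation :=
    (HasRingHomProperty.Spec_iff (P := @LocallyOfFinitePresentation)).mp (hα ▸ inferInstance)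
  algebraize [α.hom]
  have hstep := slice_step (A₀ := Γ(V₀.left, ⊤)) ψ.hom (V₀.left.isoSpec.hom v₀) hne fun Ω _ a c h₁ h₂ => by
    let x : Spec (CommRingCat.of Ω) ⟶ (hp.rep.pullback p₀).left := Spec.map (CommRingCat.ofHom a) ≫ e
    let y : Spec (CommRingCat.of Ω) ⟶ (hp.rep.pullback p₀).left := Spec.map (CommRingCat.ofHom c) ≫ e
    have hx₂ : x ≫ π₂ = y ≫ π₂ := by
      rw [← cancel_mono V₀.left.isoSpec.hom]
      simp only [x, y, π₂, Category.assoc, hα, ← Spec.map_comp]
      exact congrArg Spec.map (CommRingCat.hom_ext h₁)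
    have hx₁ : x ≫ π₁ = y ≫ π₁ := by
      rw [← cancel_mono W.left.isoSpec.hom]
      simp only [x, y, Category.assoc, ← hψ, ← Spec.map_comp]
      exact congrArg Spec.map (CommRingCat.hom_ext h₂)
    let X : Over S := Over.mk (x ≫ (hp.rep.pullback p₀).hom)
    let xo : X ⟶ hp.rep.pullback p₀ := Over.homMk x rfl
    have hw : y ≫ (hp.rep.pullback p₀).hom = x ≫ (hp.rep.pullback p₀).hom := by
      rw [← Over.w (hp.rep.fst' p₀), ← Category.assoc, ← Category.assoc]
      exact congrArg (· ≫ W.hom) hx₁.symm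
    let yo : X ⟶ hp.rep.pullback p₀ := Over.homMk y hw
    have : xo = yo := hp.rep.hom_ext' (Over.OverMorphism.ext hx₁) (Over.OverMorphism.ext hx₂)
    have hxy : x = y := congrArg (·.left) this
    exact congrArg CommRingCat.Hom.hom (Spec.map_injective ((cancel_mono e).mp hxy))
  have hlfp : RepWith @LocallyOfFinitePresentation p := repWith_mono inf_le_right hp
  rcases hstep with ⟨q, hq, hqf⟩ | ⟨g, b, P, Q, hP, hQ, hbQ, hgQ, hflat, habove⟩
  · -- a quasi-finite point
    have hQF : π₂.QuasiFiniteAt (e q) := by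
      have h1 := quasiFiniteAt_specMap α q hqf
      rw [← hα] at h1
      exact Scheme.Hom.quasiFiniteAt_comp_iff.mp
        (Scheme.Hom.quasiFiniteAt_comp_iff_of_isOpenImmersion.mp h1)
    obtain ⟨Wl, hWl, hmem⟩ := locus_quasiFinite hp₀ hlfp
    obtain ⟨U, hU, hxU, hUW⟩ := exists_isAffineOpen_mem_and_subset (hmem (e q) hQF)
    have hfl : RepWith (@Flat ⊓ @LocallyOfFinitePresentation) (restr p U.ι) :=
      repWith_restr hp U.ι ⟨inferInstance, inferInstance⟩
    have hqf' : RepWith @LocallyQuasiFinite (restr p U.ι) :=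
      repWith_restr_of_locus hlfp (fun f x => f.QuasiFiniteAt x) openInv_quasiFinite _
        (fun f _ h => locallyQuasiFinite_of_quasiFiniteAt f h) Wl hWl U.ι (fun x => hUW x.2)
    have hp' : RepWith (@Flat ⊓ @LocallyOfFinitePresentation ⊓ @LocallyQuasiFinite) (restr p U.ι) :=
      repWith_inf_iff.mpr ⟨hfl, hqf'⟩
    obtain ⟨i, sq, hi⟩ := exists_map_restr hp.rep U.ι hp'.rep p₀
    obtain ⟨r, -, hr⟩ := Scheme.exists_preimage_of_isPullback sq ⟨π₁ (e q), hxU⟩ (e q) rfl
    refine ⟨src U.ι, restr p U.ι, hp', hU, r, ?_⟩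
    rw [← hi, Scheme.Hom.comp_apply, hr]
    exact hiso ((hpt q).symm.trans hq)
  -- slice by `g`
  let jg : Spec (CommRingCat.of (Γ(W.left, ⊤) ⧸ Ideal.span {g})) ⟶ W.left :=
    Spec.map (CommRingCat.ofHom (Ideal.Quotient.mk (Ideal.span {g}))) ≫ W.left.isoSpec.inv
  have := locallyOfFinitePresentation_quotient g
  have : IsClosedImmersion jg := by
    have : IsClosedImmersion (Spec.map (CommRingCat.ofHom (Ideal.Quotient.mk (Ideal.span {g})))) :=
      IsClosedImmersion.spec_of_surjective _ Ideal.Quotient.mk_surjective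
    infer_instance
  have hlfpg : RepWith @LocallyOfFinitePresentation (restr p jg) :=
    repWith_restr hlfp jg (show LocallyOfFinitePresentation jg from inferInstance)
  obtain ⟨ig, sqg, hig⟩ := exists_map_restr hp.rep jg hlfpg.rep p₀
  have : IsClosedImmersion ig := MorphismProperty.of_isPullback sqg inferInstance
  obtain ⟨φ', hpo⟩ := isPushout_span_singleton ψ.hom g
  let qB : B ⟶ CommRingCat.of (B ⧸ Ideal.span {ψ.hom g}) :=
    CommRingCat.ofHom (Ideal.Quotient.mk (Ideal.span {ψ.hom g}))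
  have outer : IsPullback (Spec.map (CommRingCat.ofHom φ')) (Spec.map qB) jg (e ≫ π₁) :=
    ((isPullback_SpecMap_of_isPushout _ _ _ _ hpo).flip).of_iso (Iso.refl _) (Iso.refl _) (Iso.refl _)
      W.left.isoSpec.symm (by simp) (by simp [qB]) (by simp [jg]) (by simp [hψ])
  let k := sqg.lift (Spec.map (CommRingCat.ofHom φ')) (Spec.map qB ≫ e) (by
    rw [Category.assoc]; exact outer.w)
  have hk₁ : k ≫ (hlfpg.rep.fst' p₀).left = Spec.map (CommRingCat.ofHom φ') := sqg.lift_fst _ _ _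
  have hk₂ : k ≫ ig = Spec.map qB ≫ e := sqg.lift_snd _ _ _
  have sqk : IsPullback k (Spec.map qB) ig e :=
    IsPullback.of_right (hk₁.symm ▸ outer) hk₂ sqg
  have : IsOpenImmersion k := MorphismProperty.of_isPullback sqk.flip inferInstance
  let Qbar : PrimeSpectrum (B ⧸ Ideal.span {ψ.hom g}) :=
    ⟨Q.asIdeal.map (Ideal.Quotient.mk _), Ideal.map_isPrime_of_surjective Ideal.Quotient.mk_surjective
      (by rw [Ideal.mk_ker, Ideal.span_singleton_le_iff_mem]; exact hgQ)⟩
  have hQbar : Qbar.comap (Ideal.Quotient.mk _) = Q := PrimeSpectrum.ext (by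
    simp only [PrimeSpectrum.comap_asIdeal, Qbar]
    rw [Ideal.comap_map_of_surjective _ Ideal.Quotient.mk_surjective, ← RingHom.ker_eq_comap_bot,
      Ideal.mk_ker, sup_eq_left, Ideal.span_singleton_le_iff_mem]
    exact hgQ)
  have hflk : ((hlfpg.rep.snd p₀).left.stalkMap (k Qbar)).hom.Flat := by
    have h1 := flat_stalkMap_quotient α (ψ.hom g) Q hflat Qbar hQbar
    rw [Spec.map_comp, show Spec.map qB ≫ Spec.map α =
      k ≫ (hlfpg.rep.snd p₀).left ≫ V₀.left.isoSpec.hom by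
        rw [← hα, ← hig, Category.assoc, reassoc_of% hk₂]] at h1
    have h2 := (openInv_flat k ((hlfpg.rep.snd p₀).left ≫ V₀.left.isoSpec.hom) Qbar).mp h1
    simp only [] at h2
    rw [Scheme.Hom.stalkMap_comp, CommRingCat.hom_comp,
      RingHom.Flat.respectsIso.cancel_left_isIso] at h2
    exact h2
  obtain ⟨Wl, hWl, hmem⟩ := locus_flat hp₀ hlfpg
  obtain ⟨U, hU, hxU, hUW⟩ := exists_isAffineOpen_mem_and_subset (hmem (k Qbar) hflk)
  have hfl : RepWith (@Flat ⊓ @LocallyOfFinitePresentation) (restr (restr p jg) U.ι) :=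
    repWith_inf_iff.mpr ⟨repWith_restr_of_locus hlfpg (fun f x => (f.stalkMap x).hom.Flat) openInv_flat _
      (fun f _ h => flat_of_flatAt f h) Wl hWl U.ι (fun x => hUW x.2),
      repWith_restr hlfpg U.ι (show LocallyOfFinitePresentation U.ι from inferInstance)⟩
  obtain ⟨i', sq', hi'⟩ := exists_map_restr hlfpg.rep U.ι hfl.rep p₀
  have : IsOpenImmersion i' := MorphismProperty.of_isPullback sq' inferInstance
  obtain ⟨ρ, -, hρ⟩ := Scheme.exists_preimage_of_isPullback sq'
    ⟨(hlfpg.rep.fst' p₀).left (k Qbar), hxU⟩ (k Qbar) rfl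
  have hkQ : ig (k Qbar) = e Q := by
    rw [← Scheme.Hom.comp_apply, hk₂, Scheme.Hom.comp_apply]
    exact congrArg e hQbar
  have hπiso := hiso
  let Db : (hp.rep.pullback p₀).left.Opens := e ''ᵁ (PrimeSpectrum.basicOpen b)
  obtain ⟨O, hO, hρO, hOD⟩ := exists_isAffineOpen_mem_and_subset (U := (i' ≫ ig) ⁻¹ᵁ Db) (x := ρ)
    (show (i' ≫ ig) ρ ∈ Db from ⟨Q, hbQ, by rw [Scheme.Hom.comp_apply, hρ, hkQ]; rfl⟩)
  let c := hO.fromSpec ≫ i' ≫ ig
  have hcD : ∀ q', c q' ∈ Db := fun q' => by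
    have : hO.fromSpec q' ∈ O := by
      have := Set.mem_range_self (f := hO.fromSpec) q'
      rwa [hO.range_fromSpec] at this
    exact hOD this
  have hrange : Set.range c ⊆ Set.range e := by
    rintro _ ⟨q', rfl⟩
    obtain ⟨z, -, hz⟩ := hcD q'
    exact ⟨z, hz⟩
  obtain ⟨θ, hθ⟩ := Spec.map_surjective (IsOpenImmersion.lift e c hrange)
  have hθe : Spec.map θ ≫ e = c := by rw [hθ, IsOpenImmersion.lift_fac]
  have hα' : hO.fromSpec ≫ (hfl.rep.snd p₀).left ≫ V₀.left.isoSpec.hom = Spec.map (α ≫ θ) := by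
    rw [Spec.map_comp, ← hα, reassoc_of% hθe, ← hi', ← hig]
    simp [c]
  have hcinj : Function.Injective c := by
    simp only [c, Scheme.Hom.comp_base, TopCat.coe_comp]
    exact ig.isClosedEmbedding.injective.comp
      (i'.isOpenEmbedding.injective.comp hO.fromSpec.isOpenEmbedding.injective)
  have hθb : ∀ q', b ∉ ((Spec.map θ) q').asIdeal := fun q' => by
    obtain ⟨z, hz, hze⟩ := hcD q'
    rw [← hθe, Scheme.Hom.comp_apply] at hze
    exact e.isOpenEmbedding.injective hze ▸ hz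
  have hθg : ∀ q', ψ.hom g ∈ ((Spec.map θ) q').asIdeal := fun q' => by
    have h1 : Spec.map θ ≫ Spec.map ψ = (hO.fromSpec ≫ i' ≫ (hlfpg.rep.fst' p₀).left) ≫
        Spec.map (CommRingCat.ofHom (Ideal.Quotient.mk (Ideal.span {g}))) := by
      rw [hψ, reassoc_of% hθe]
      simp only [c, π₁, Category.assoc]
      rw [← sqg.w_assoc]
      simp [jg]
    have h2 := congrArg (fun f => f q') h1
    simp only [Scheme.Hom.comp_apply] at h2
    change g ∈ (Spec.map ψ (Spec.map θ q')).asIdeal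
    rw [h2]
    exact Ideal.mem_comap.mpr (by
      rw [CommRingCat.hom_ofHom, Ideal.Quotient.eq_zero_iff_mem.mpr (Ideal.mem_span_singleton_self g)]
      exact zero_mem _)
  have hne' : ∃ q' : PrimeSpectrum Γ((hfl.rep.pullback p₀).left, O), q'.comap (α ≫ θ).hom = V₀.left.isoSpec.hom v₀ := by
    obtain ⟨q', hq'⟩ : ρ ∈ Set.range hO.fromSpec := by rw [hO.range_fromSpec]; exact hρO
    refine ⟨q', ?_⟩
    change Spec.map (α ≫ θ) q' = _
    rw [← hα', Scheme.Hom.comp_apply, hq', ← hi', ← hig]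
    simp only [Scheme.Hom.comp_apply, hρ, hkQ]
    exact (hpt Q).symm.trans hQ
  obtain ⟨q', hq'⟩ := hne'
  let f' : {q : PrimeSpectrum Γ((hfl.rep.pullback p₀).left, O) // q.comap (α ≫ θ).hom = V₀.left.isoSpec.hom v₀} →
      {q : PrimeSpectrum B // q.comap α.hom = V₀.left.isoSpec.hom v₀} :=
    fun q => ⟨q.1.comap θ.hom, q.2⟩
  have hθinj : Function.Injective (PrimeSpectrum.comap θ.hom) := injective_comap_of_comp θ e c hθe hcinj
  have hf' : StrictMono f' := Monotone.strictMono_of_injective (fun a c' h => Ideal.comap_mono h)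
    fun a c' h => Subtype.ext (hθinj (congrArg Subtype.val h))
  have hlt : ∀ x, (⟨P, hP⟩ : {q : PrimeSpectrum B // q.comap α.hom = V₀.left.isoSpec.hom v₀}) < f' x :=
    fun x => habove _ x.2 (hθb x.1) (hθg x.1)
  have hdecr := series_lt f' hf' ⟨P, hP⟩ hlt n hbound
  have hn := hdecr (RelSeries.singleton _ ⟨q', hq'⟩)
  have : IsAffine (src (W := src jg) U.ι).left := hU
  exact IH (n - 1) (by simp at hn; omega) (restr (restr p jg) U.ι) hfl _ hO.fromSpec (α ≫ θ) hα'
    ⟨q', hq'⟩ fun s => by have := hdecr s; omega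

/-- Every point of an affine `V₀` is covered by a flat, locally finitely presented, locally
quasi-finite chart with affine source. -/
theorem exists_qf_chart (hp₀ : RepWith (@Flat ⊓ @LocallyOfFinitePresentation) p₀) (v₀ : ↥V₀.left) :
    ∃ (W' : Over S) (p' : (yon S).obj W' ⟶ F)
      (hp' : RepWith (@Flat ⊓ @LocallyOfFinitePresentation ⊓ @LocallyQuasiFinite) p'),
      IsAffine W'.left ∧ ∃ r : ↥(hp'.rep.pullback p₀).left, (hp'.rep.snd p₀).left r = v₀ := by
  let d := hp₀.rep.lift' (𝟙 V₀) (𝟙 V₀) rfl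
  have hd : d ≫ hp₀.rep.snd p₀ = 𝟙 V₀ := hp₀.rep.lift'_snd _ _ _
  obtain ⟨O, hO, hρO, -⟩ := exists_isAffineOpen_mem_and_subset
    (show d.left v₀ ∈ (⊤ : (hp₀.rep.pullback p₀).left.Opens) from trivial)
  obtain ⟨α, hα⟩ := Spec.map_surjective (hO.fromSpec ≫ (hp₀.rep.snd p₀).left ≫ V₀.left.isoSpec.hom)
  have : LocallyOfFinitePresentation (hp₀.rep.snd p₀).left :=
    (hp₀.property p₀ _ _ (hp₀.rep.isPullback p₀)).2
  have hfp : α.hom.FinitePresentation :=
    (HasRingHomProperty.Spec_iff (P := @LocallyOfFinitePresentation)).mp (hα ▸ inferInstance)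
  algebraize [α.hom]
  obtain ⟨n, hn⟩ := exists_series_bound (A := Γ(V₀.left, ⊤)) (B := Γ((hp₀.rep.pullback p₀).left, O)) (V₀.left.isoSpec.hom v₀)
  refine exists_qf_of_piece hp₀ v₀ n p₀ hp₀ _ hO.fromSpec α hα.symm ?_ hn
  obtain ⟨q, hq⟩ : d.left v₀ ∈ Set.range hO.fromSpec := by rw [hO.range_fromSpec]; exact hρO
  refine ⟨q, ?_⟩
  change Spec.map α q = _
  rw [hα, Scheme.Hom.comp_apply, hq, ← Scheme.Hom.comp_apply, ← Category.assoc, ← Over.comp_left, hd]
  simp

end Groth.FppfBoot
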