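import Groth.Agent.FppfBoot.Quot
import Groth.Agent.FppfBoot.Slice
import Groth.Agent.AlgSpFppf.DiagFppf
import Groth.Agent.HenselPoint.SigmaRep
import Groth.Agent.AlgSpBasic.Compact

/-!
# A sheaf with an fppf cover by an algebraic space is an algebraic space
-/

set_option autoImplicit false
set_option backward.isDefEq.respectTransparency false
set_option backward.isDefEq.respectTransparency.types false

universe u

open CategoryTheory CategoryTheory.Limits AlgebraicGeometry Opposite AlgSp

noncomputable section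

namespace Groth.FppfBoot

open Groth.AlgSpBasic Groth.AlgSpFppf

variable {S : Scheme.{u}} {F : Sp S}

/-- An fppf cover by an algebraic space gives a flat, locally finitely presented, surjective cover by
a scheme which is representable by schemes. -/
theorem exists_scheme_cover {X : Space S} {p : X.obj ⟶ F} (hp : RepBySpWith (FppfMor S) p.hom) :
    ∃ (U : Over S) (π : (yon S).obj U ⟶ F),
      RepWith (@Flat ⊓ @LocallyOfFinitePresentation) π ∧ RepWith @Surjective π := by
  have hd := representable_diag_of_fppf_cover hp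
  obtain ⟨U, q, hq, hqs⟩ := X.property.atlas
  have hr : Representable (q ≫ p) := representable_of_diag hd _
  have hpts : Function.Surjective (Points.map (q ≫ p)) := fun y => by
    obtain ⟨T, g, t, rfl⟩ := exists_ofPt y
    obtain ⟨-, ⟨hsurj, -⟩, -⟩ := (repBySpWith_hom_iff _ p).1 hp g _ _ (IsPullback.of_hasPullback p g)
    obtain ⟨a, ha⟩ := hsurj (Points.ofScheme T t)
    obtain ⟨v, hv⟩ := surjective_map_of_repWith hqs (Points.map (pullback.fst p g) a)
    refine ⟨v, ?_⟩
    rw [Points.map_comp, hv, ← Points.map_comp, pullback.condition, Points.map_comp, ha, ofPt_eq_map]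
  refine ⟨U, q ≫ p, repWith_of_representable hr fun T V g fst snd sq => ?_,
    repWith_surjective_of_points hr hpts⟩
  obtain ⟨hA, ⟨-, hfl⟩, hlfp⟩ := (repBySpWith_hom_iff _ p).1 hp g _ _ (IsPullback.of_hasPullback p g)
  have hT : IsAlgSpace ((yon S).obj T) := IsAlgSpace.yon_obj T
  let l : (yon S).obj V ⟶ pullback p g :=
    pullback.lift (fst ≫ q) ((yon S).map snd) (by rw [Category.assoc]; exact sq.w)
  have hl₁ : l ≫ pullback.fst p g = fst ≫ q := pullback.lift_fst _ _ _
  have hl₂ : l ≫ pullback.snd p g = (yon S).map snd := pullback.lift_snd _ _ _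
  have sql : IsPullback fst l q (pullback.fst p g) :=
    IsPullback.of_bot (by rw [hl₂]; exact sq) hl₁.symm (IsPullback.of_hasPullback p g)
  have hl : RepWith @Etale l := repWith_of_isPullback sql hq
  have aux : ∀ (P : MorphismProperty Scheme.{u}), (∀ {A B : Scheme.{u}} (f : A ⟶ B), Etale f → P f) →
      ∀ [EtaleLocal P] [P.IsStableUnderComposition], LocP P (pullback.snd p g) → P snd.left :=
    fun P hP _ _ h => by
      refine locP_yon_map (P := P) ?_
      rw [← hl₂]
      exact locP_comp (IsAlgSpace.yon_obj V) hA hT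
        (locP_of_repWith (repWith_mono (fun _ _ f hf => hP f hf) hl)) h
  exact ⟨aux @Flat (fun f _ => inferInstance) hfl,
    aux @LocallyOfFinitePresentation (fun f _ => inferInstance) hlfp⟩

/-- A sheaf with an fppf cover by an algebraic space is an algebraic space. -/
theorem isAlgSpace_of_fppf_cover {X : Space S} {p : X.obj ⟶ F} (hp : RepBySpWith (FppfMor S) p.hom) :
    IsAlgSpace F := by
  obtain ⟨U, π₀, hπ₀, hπ₀s⟩ := exists_scheme_cover hp
  have key : ∀ x : ↥U.left, ∃ (Y : Over S) (π : (yon S).obj Y ⟶ F) (y : ↥Y.left),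
      RepWith @Etale π ∧ Points.ofPt π y = Points.ofPt π₀ x := fun x => by
    obtain ⟨O, hO, hxO, -⟩ := exists_isAffineOpen_mem_and_subset
      (show x ∈ (⊤ : U.left.Opens) from trivial)
    have : IsAffine (src (W := U) O.ι).left := hO
    have hp₀ : RepWith (@Flat ⊓ @LocallyOfFinitePresentation) (restr π₀ O.ι) :=
      repWith_restr hπ₀ O.ι ⟨inferInstance, inferInstance⟩
    obtain ⟨W', p', hp', hW', r, hr⟩ := exists_qf_chart hp₀ ⟨x, hxO⟩
    obtain ⟨Y, π, hπ, hcov⟩ := exists_etale_of_chart (repWith_mono inf_le_left hp')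
      (repWith_mono inf_le_right hp')
    obtain ⟨T', k, t', y, hk, hy⟩ := hcov (restr π₀ O.ι) r
    refine ⟨Y, π, y.left t', hπ, ?_⟩
    rw [← ofPt_comp_yon y π t', hy, ofPt_comp_yon, hk]
    refine (ofPt_comp_yon _ π₀ _).trans (congrArg (Points.ofPt π₀) ?_)
    exact congrArg O.ι hr
  choose Y π y hπ hy using key
  obtain ⟨π', hπ', -⟩ := Groth.AlgSp2.exists_glue Y π
  have he : RepWith @Etale π' :=
    Groth.HenselPoint.repWith_sigma π' fun i => (hπ' i).symm ▸ hπ i
  refine isAlgSpace_of_chart he (repWith_surjective_of_ofPt he.rep fun z => ?_)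
  obtain ⟨x, rfl⟩ := surjective_ofPt_of_repWith hπ₀s z
  refine ⟨(Groth.AlgSp2.sigmaIncl Y x).left (y x), ?_⟩
  rw [← ofPt_comp_yon, hπ' x]
  exact hy x

end Groth.FppfBoot
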