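import Groth.Agent.FppfBoot.SchemeRep
import Groth.Agent.CMMor.Locus
import Groth.Agent.SchemeMorphisms.FibreBaseChange
import Groth.Agent.AlgSp2.FlatFibreScheme
import Groth.Agent.Misc13.FlatBC

/-!
# Open loci on a chart of an fppf sheaf

A property of a morphism at a point which is open, stable under base change and which descends along
flat morphisms defines an open of a chart `V ⟶ F`.
-/

set_option autoImplicit false
set_option backward.isDefEq.respectTransparency false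
set_option backward.isDefEq.respectTransparency.types false

universe u

open CategoryTheory CategoryTheory.Limits AlgebraicGeometry Opposite AlgSp

noncomputable section

namespace Groth.FppfBoot

open Groth.AlgSpBasic

variable {S : Scheme.{u}} {F : Sp S} {V₀ V₁ : Over S} {p₀ : (yon S).obj V₀ ⟶ F}
  {p₁ : (yon S).obj V₁ ⟶ F}

/-- The triple product over `F` as a base change. -/
theorem isPullback_triple {W T T' : Over S} (h₁ : Representable p₁) (a : (yon S).obj T ⟶ F)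
    (b : (yon S).obj W ⟶ F) (k : T' ⟶ T) (l : T' ⟶ W) (hkl : (yon S).map k ≫ a = (yon S).map l ≫ b)
    (hT' : ∀ {C : Over S} (x : C ⟶ T) (y : C ⟶ W), (yon S).map x ≫ a = (yon S).map y ≫ b →
      ∃ z : C ⟶ T', z ≫ k = x ∧ z ≫ l = y)
    (huniq : ∀ {C : Over S} (z z' : C ⟶ T'), z ≫ k = z' ≫ k → z ≫ l = z' ≫ l → z = z') :
    ∃ m : Limits.pullback (h₁.fst' a) (h₁.fst' b) ⟶ T',
      IsPullback (pullback.fst (h₁.fst' a) (h₁.fst' b)) m (h₁.snd a) k ∧
        IsPullback (pullback.snd (h₁.fst' a) (h₁.fst' b)) m (h₁.snd b) l := by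
  have e : ∀ {C : Over S} (x : C ⟶ h₁.pullback a),
      (yon S).map (x ≫ h₁.fst' a) ≫ p₁ = (yon S).map (x ≫ h₁.snd a) ≫ a := fun x => by
    rw [Functor.map_comp, Functor.map_comp, Category.assoc, Category.assoc, (h₁.isPullback' a).w]
  have e' : ∀ {C : Over S} (x : C ⟶ h₁.pullback b),
      (yon S).map (x ≫ h₁.fst' b) ≫ p₁ = (yon S).map (x ≫ h₁.snd b) ≫ b := fun x => by
    rw [Functor.map_comp, Functor.map_comp, Category.assoc, Category.assoc, (h₁.isPullback' b).w]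
  obtain ⟨m, hm₁, hm₂⟩ := hT' (pullback.fst (h₁.fst' a) (h₁.fst' b) ≫ h₁.snd a)
    (pullback.snd (h₁.fst' a) (h₁.fst' b) ≫ h₁.snd b) (by rw [← e, ← e', pullback.condition])
  refine ⟨m, IsPullback.mk' hm₁.symm (fun C φ φ' hf hs => pullback.hom_ext hf ?_) fun C x y hxy => ?_,
    IsPullback.mk' hm₂.symm (fun C φ φ' hf hs => pullback.hom_ext ?_ hf) fun C x y hxy => ?_⟩
  · refine h₁.hom_ext' ?_ ?_
    · simp only [Category.assoc, ← pullback.condition]
      exact congrArg (· ≫ h₁.fst' a) hf |>.trans (Category.assoc _ _ _) |> (Category.assoc _ _ _).symm.trans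
    · have := congrArg (· ≫ l) hs
      simpa only [Category.assoc, hm₂] using this
  · obtain ⟨x', hx₁, hx₂⟩ : ∃ x' : C ⟶ h₁.pullback b, x' ≫ h₁.fst' b = x ≫ h₁.fst' a ∧
        x' ≫ h₁.snd b = y ≫ l :=
      ⟨h₁.lift' _ _ (by rw [e, hxy, Functor.map_comp, Functor.map_comp, Category.assoc,
        Category.assoc, hkl]), h₁.lift'_fst _ _ _, h₁.lift'_snd _ _ _⟩
    refine ⟨pullback.lift x x' hx₁.symm, pullback.lift_fst _ _ _, huniq _ _ ?_ ?_⟩
    · rw [Category.assoc, hm₁, pullback.lift_fst_assoc, hxy]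
    · rw [Category.assoc, hm₂, pullback.lift_snd_assoc, hx₂]
  · refine h₁.hom_ext' ?_ ?_
    · simp only [Category.assoc, pullback.condition]
      exact congrArg (· ≫ h₁.fst' b) hf |>.trans (Category.assoc _ _ _) |> (Category.assoc _ _ _).symm.trans
    · have := congrArg (· ≫ k) hs
      simpa only [Category.assoc, hm₁] using this
  · obtain ⟨x', hx₁, hx₂⟩ : ∃ x' : C ⟶ h₁.pullback a, x' ≫ h₁.fst' a = x ≫ h₁.fst' b ∧
        x' ≫ h₁.snd a = y ≫ k :=
      ⟨h₁.lift' _ _ (by rw [e', hxy, Functor.map_comp, Functor.map_comp, Category.assoc,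
        Category.assoc, hkl]), h₁.lift'_fst _ _ _, h₁.lift'_snd _ _ _⟩
    refine ⟨pullback.lift x' x hx₁, pullback.lift_snd _ _ _, huniq _ _ ?_ ?_⟩
    · rw [Category.assoc, hm₁, pullback.lift_fst_assoc, hx₂]
    · rw [Category.assoc, hm₂, pullback.lift_snd_assoc, hxy]

/-- The open of a chart defined by a property at points. -/
theorem exists_open_of_locus (hp₀ : RepWith (@Flat ⊓ @LocallyOfFinitePresentation) p₀)
    (hp₁ : RepWith @LocallyOfFinitePresentation p₁)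
    (Q : ∀ {X Y : Scheme.{u}}, (X ⟶ Y) → X → Prop)
    (hopen : ∀ {X Y : Scheme.{u}} (f : X ⟶ Y) [LocallyOfFinitePresentation f], IsOpen {x | Q f x})
    (hbc : ∀ {P X Y Z : Scheme.{u}} {g' : P ⟶ X} {f' : P ⟶ Y} {f : X ⟶ Z} {g : Y ⟶ Z},
      IsPullback g' f' f g → LocallyOfFinitePresentation f → ∀ x' : P, Q f (g' x') → Q f' x')
    (hdesc : ∀ {P X Y Z : Scheme.{u}} {g' : P ⟶ X} {f' : P ⟶ Y} {f : X ⟶ Z} {g : Y ⟶ Z},
      IsPullback g' f' f g → LocallyOfFinitePresentation f → Flat g → ∀ x' : P, Q f' x' → Q f (g' x')) :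
    ∃ W : V₁.left.Opens,
      (∀ {T : Over S} (a : (yon S).obj T ⟶ F) (r : ↥(hp₁.rep.pullback a).left),
        (hp₁.rep.fst' a).left r ∈ W → Q (hp₁.rep.snd a).left r) ∧
      ∀ ρ : ↥(hp₁.rep.pullback p₀).left,
        Q (hp₁.rep.snd p₀).left ρ → (hp₁.rep.fst' p₀).left ρ ∈ W := by
  have hlf : ∀ {T : Over S} (a : (yon S).obj T ⟶ F), LocallyOfFinitePresentation (hp₁.rep.snd a).left :=
    fun a => hp₁.property a _ _ (hp₁.rep.isPullback a)
  have hfl := hp₀.property p₁ ((yon S).map (hp₁.rep.snd p₀)) (hp₁.rep.fst' p₀)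
    (hp₁.rep.isPullback' p₀).flip
  have : Flat (hp₁.rep.fst' p₀).left := hfl.1
  have : LocallyOfFinitePresentation (hp₁.rep.fst' p₀).left := hfl.2
  have := hlf p₀
  refine ⟨⟨(hp₁.rep.fst' p₀).left '' {ρ | Q (hp₁.rep.snd p₀).left ρ},
    (hp₁.rep.fst' p₀).left.isOpenMap _ (hopen _)⟩, fun {T} a r hr => ?_, fun ρ hρ => ⟨ρ, hρ, rfl⟩⟩
  obtain ⟨ρ, hρ, hρr⟩ := hr
  have h₀ : Representable p₀ := hp₀.rep
  obtain ⟨m, sq₁, sq₂⟩ := isPullback_triple (p₁ := p₁) hp₁.rep a p₀ (h₀.snd a) (h₀.fst' a)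
    (h₀.isPullback' a).w.symm
    (fun x y h => ⟨h₀.lift' y x h.symm, h₀.lift'_snd _ _ _, h₀.lift'_fst _ _ _⟩)
    (fun z z' e₁ e₂ => h₀.hom_ext' e₂ e₁)
  have sqP := (IsPullback.of_hasPullback (hp₁.rep.fst' a) (hp₁.rep.fst' p₀)).map (Over.forget S)
  obtain ⟨q, hq₁, hq₂⟩ := Scheme.exists_preimage_of_isPullback sqP r ρ hρr.symm
  change (pullback.fst (hp₁.rep.fst' a) (hp₁.rep.fst' p₀)).left q = r at hq₁
  change (pullback.snd (hp₁.rep.fst' a) (hp₁.rep.fst' p₀)).left q = ρ at hq₂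
  have hm := hbc (sq₂.map (Over.forget S)) (hlf p₀) q (hq₂ ▸ hρ)
  exact hq₁ ▸ hdesc (sq₁.map (Over.forget S)) (hlf a) (hp₀.property a _ _ (h₀.isPullback a)).1 q hm

theorem flat_bc {P X Y Z : Scheme.{u}} {g' : P ⟶ X} {f' : P ⟶ Y} {f : X ⟶ Z} {g : Y ⟶ Z}
    (sq : IsPullback g' f' f g) (x' : P) (h : (f.stalkMap (g' x')).hom.Flat) :
    (f'.stalkMap x').hom.Flat :=
  Groth.Misc13.FlatBC.flat_stalkMap_baseChange sq.flip x' h

theorem flat_desc {P X Y Z : Scheme.{u}} {g' : P ⟶ X} {f' : P ⟶ Y} {f : X ⟶ Z} {g : Y ⟶ Z}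
    (sq : IsPullback g' f' f g) (hg : Flat g) (x' : P) (h : (f'.stalkMap x').hom.Flat) :
    (f.stalkMap (g' x')).hom.Flat := by
  have hg' : Flat g' := MorphismProperty.of_isPullback sq.flip hg
  refine Groth.AlgSp2.FlatFib.flat_at_of_comp g' f x' (Flat.stalkMap g' x') ?_
  rw [Scheme.Hom.stalkMap_congr_hom (g' ≫ f) (f' ≫ g) sq.w]
  exact RingHom.Flat.comp (RingHom.Flat.of_bijective (ConcreteCategory.bijective_of_isIso _))
    (Groth.AlgSp2.FlatFib.flat_at_comp f' g x' h (Flat.stalkMap g _))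

end Groth.FppfBoot
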