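import Mathlib
import Groth.Agent.EtaleBase.FpqcDescent

/-!
# Pieces: open subschemes which are finite and surjective over the base
-/

set_option autoImplicit false
set_option backward.isDefEq.respectTransparency false
set_option backward.isDefEq.respectTransparency.types false

universe u

open CategoryTheory CategoryTheory.Limits AlgebraicGeometry

namespace Groth.FppfBoot

variable {X T X' T' : Scheme.{u}}

/-- An open of `X` which is finite and surjective over `T`. -/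
structure IsPiece (f : X ⟶ T) (Z : X.Opens) : Prop where
  finite : IsFinite (Z.ι ≫ f)
  surjective : Surjective (Z.ι ≫ f)

theorem isPullback_piece {g' : X' ⟶ X} {f' : X' ⟶ T'} {f : X ⟶ T} {g : T' ⟶ T}
    (sq : IsPullback g' f' f g) (Z : X.Opens) :
    IsPullback (g' ∣_ Z) ((g' ⁻¹ᵁ Z).ι ≫ f') (Z.ι ≫ f) g :=
  (isPullback_morphismRestrict g' Z).paste_vert sq

theorem IsPiece.preimage {g' : X' ⟶ X} {f' : X' ⟶ T'} {f : X ⟶ T} {g : T' ⟶ T}
    (sq : IsPullback g' f' f g) {Z : X.Opens} (h : IsPiece f Z) : IsPiece f' (g' ⁻¹ᵁ Z) :=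
  ⟨MorphismProperty.of_isPullback (isPullback_piece sq Z) h.finite,
    MorphismProperty.of_isPullback (isPullback_piece sq Z) h.surjective⟩

variable {f : X ⟶ T}

theorem isClosed_of_isPiece [IsSeparated f] {Z : X.Opens} (h : IsPiece f Z) : IsClosed (Z : Set X) := by
  have := h.finite
  have : IsFinite Z.ι := .of_comp _ f
  simpa using Z.ι.isClosedMap.isClosed_range

theorem IsPiece.exists_mem {Z : X.Opens} (h : IsPiece f Z) (t : T) : ∃ z ∈ Z, f z = t := by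
  obtain ⟨z, hz⟩ := h.surjective.1 t
  exact ⟨z.1, z.2, by rwa [Scheme.Hom.comp_apply] at hz⟩

theorem IsPiece.finite_fibre {Z : X.Opens} (h : IsPiece f Z) (t : T) : {z | z ∈ Z ∧ f z = t}.Finite := by
  have := h.finite
  refine (((Z.ι ≫ f).finite_preimage_singleton t).image Z.ι).subset fun z ⟨hz, hzt⟩ => ⟨⟨z, hz⟩, ?_, rfl⟩
  simpa using hzt

section Locus

variable [IsSeparated f] [Flat f] [LocallyOfFinitePresentation f] {Z₁ Z₂ : X.Opens}

theorem isClopen_image (h₁ : IsPiece f Z₁) (h₂ : IsPiece f Z₂) :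
    IsClopen (f '' ((Z₁ : Set X) \ Z₂)) := by
  have ho : IsOpen ((Z₁ : Set X) \ Z₂) := Z₁.2.inter (isClosed_of_isPiece h₂).isOpen_compl
  refine ⟨?_, f.isOpenMap _ ho⟩
  have := h₁.finite
  have hc : IsClosed (Z₁.ι ⁻¹' ((Z₁ : Set X) \ Z₂)) := by
    have : Z₁.ι ⁻¹' ((Z₁ : Set X) \ Z₂) = Z₁.ι ⁻¹' (Z₂ : Set X)ᶜ := by
      ext z
      simp [z.2]
    rw [this]
    exact Z₂.2.isClosed_compl.preimage Z₁.ι.continuous
  convert (Z₁.ι ≫ f).isClosedMap _ hc using 1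
  ext t
  constructor
  · rintro ⟨z, hz, rfl⟩
    exact ⟨⟨z, hz.1⟩, hz, by simp⟩
  · rintro ⟨z, hz, rfl⟩
    exact ⟨_, hz, by simp⟩

/-- The locus where two pieces agree. -/
def agree (h₁ : IsPiece f Z₁) (h₂ : IsPiece f Z₂) : T.Opens :=
  ⟨(f '' ((Z₁ : Set X) \ Z₂) ∪ f '' ((Z₂ : Set X) \ Z₁))ᶜ,
    ((isClopen_image h₁ h₂).1.union (isClopen_image h₂ h₁).1).isOpen_compl⟩

theorem isClosed_agree (h₁ : IsPiece f Z₁) (h₂ : IsPiece f Z₂) : IsClosed (agree h₁ h₂ : Set T) :=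
  ((isClopen_image h₁ h₂).2.union (isClopen_image h₂ h₁).2).isClosed_compl

theorem mem_agree_iff (h₁ : IsPiece f Z₁) (h₂ : IsPiece f Z₂) (t : T) :
    t ∈ agree h₁ h₂ ↔ ∀ z, f z = t → (z ∈ Z₁ ↔ z ∈ Z₂) := by
  simp only [agree, TopologicalSpace.Opens.mem_mk, Set.mem_compl_iff, Set.mem_union, Set.mem_image,
    Set.mem_sdiff, SetLike.mem_coe]
  constructor
  · intro h z hz
    by_contra hc
    rw [iff_def, not_and_or, Classical.not_imp, Classical.not_imp] at hc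
    exact h (hc.imp (fun hc => ⟨z, hc, hz⟩) fun hc => ⟨z, hc, hz⟩)
  · rintro h (⟨z, ⟨h1, h2⟩, hz⟩ | ⟨z, ⟨h1, h2⟩, hz⟩)
    · exact h2 ((h z hz).1 h1)
    · exact h2 ((h z hz).2 h1)

theorem preimage_eq_iff {g' : X' ⟶ X} {f' : X' ⟶ T'} {g : T' ⟶ T} (sq : IsPullback g' f' f g)
    (h₁ : IsPiece f Z₁) (h₂ : IsPiece f Z₂) :
    g' ⁻¹ᵁ Z₁ = g' ⁻¹ᵁ Z₂ ↔ Set.range g ⊆ agree h₁ h₂ := by
  constructor
  · rintro h _ ⟨t', rfl⟩
    refine (mem_agree_iff h₁ h₂ _).2 fun z hz => ?_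
    obtain ⟨z', rfl, -⟩ := Scheme.exists_preimage_of_isPullback sq z t' hz
    exact SetLike.ext_iff.1 h z'
  · intro h
    refine TopologicalSpace.Opens.ext (Set.ext fun z' => ?_)
    refine (mem_agree_iff h₁ h₂ _).1 (h ⟨f' z', rfl⟩) (g' z') ?_
    rw [← Scheme.Hom.comp_apply, ← Scheme.Hom.comp_apply, sq.w]

end Locus

/-- Finiteness descends along jointly surjective etale morphisms. -/
theorem isFinite_of_etale_locally {Y T : Scheme.{u}} (p : Y ⟶ T)
    (h : ∀ t : T, ∃ (V Y' : Scheme.{u}) (g : V ⟶ T) (g' : Y' ⟶ Y) (p' : Y' ⟶ V),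
      Flat g ∧ LocallyOfFinitePresentation g ∧ t ∈ Set.range g ∧ IsPullback g' p' p g ∧ IsFinite p') :
    IsFinite p := by
  have key : ∀ t : T, ∃ O : T.Opens, t ∈ O ∧ IsFinite (p ∣_ O) := by
    intro t
    obtain ⟨A, hA, htA, -⟩ := exists_isAffineOpen_mem_and_subset (X := T) (x := t) (U := ⊤) trivial
    obtain ⟨V, Y', g, g', p', hg, hg', ⟨v, rfl⟩, sq, hp'⟩ := h t
    obtain ⟨B, hB, hvB, hBA⟩ := exists_isAffineOpen_mem_and_subset (X := V) (x := v) (U := g ⁻¹ᵁ A) htA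
    let gB : B.toScheme ⟶ A.toScheme := g.resLE A B hBA
    have : IsAffine B.toScheme := hB
    have : IsAffine A.toScheme := hA
    have hvimg : (⟨g v, htA⟩ : A.toScheme) ∈ Set.range gB :=
      ⟨⟨v, hvB⟩, A.ι.isOpenEmbedding.injective (by
        rw [← Scheme.Hom.comp_apply, Scheme.Hom.resLE_comp_ι]; rfl)⟩
    obtain ⟨_, ⟨_, ⟨a, rfl⟩, rfl⟩, hva, hsub⟩ := (isBasis_basicOpen A.toScheme).exists_subset_of_mem_open hvimg
      gB.isOpenMap.isOpen_range
    let O : A.toScheme.Opens := A.toScheme.basicOpen a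
    have hOaff : IsAffineOpen O := (isAffineOpen_top _).basicOpen a
    have : IsAffine O.toScheme := hOaff
    have : IsAffine (gB ⁻¹ᵁ O).toScheme := hOaff.preimage gB
    have hsurj : Surjective (gB ∣_ O) := ⟨fun o => by
      obtain ⟨b, hb⟩ := hsub o.2
      exact ⟨⟨b, by change gB b ∈ O; rw [hb]; exact o.2⟩,
        O.ι.isOpenEmbedding.injective (by
          rw [← Scheme.Hom.comp_apply, morphismRestrict_ι, Scheme.Hom.comp_apply]; exact hb)⟩⟩
    let j : (gB ⁻¹ᵁ O).toScheme ⟶ V := (gB ⁻¹ᵁ O).ι ≫ B.ι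
    have hj : (gB ∣_ O) ≫ O.ι ≫ A.ι = j ≫ g := by
      simp only [j, ← Category.assoc, morphismRestrict_ι]
      simp [gB, Scheme.Hom.resLE_comp_ι]
    have hfl : Flat (gB ∣_ O) := inferInstance
    refine ⟨A.ι ''ᵁ O, ⟨⟨g v, htA⟩, hva, rfl⟩, ?_⟩
    have h1 : IsFinite (pullback.snd p (O.ι ≫ A.ι)) := by
      refine MorphismProperty.of_pullback_fst_of_descendsAlong (Q := Groth.EtaleBase.Fpqc)
        (f := gB ∣_ O) ⟨⟨hsurj, hfl⟩, inferInstance⟩ ?_
      have sq1 := (IsPullback.of_hasPullback (gB ∣_ O) (pullback.snd p (O.ι ≫ A.ι))).flip.paste_horiz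
        (IsPullback.of_hasPullback p (O.ι ≫ A.ι))
      rw [hj] at sq1
      let k := sq.lift (pullback.snd (gB ∣_ O) (pullback.snd p (O.ι ≫ A.ι)) ≫ pullback.fst p (O.ι ≫ A.ι))
        (pullback.fst (gB ∣_ O) (pullback.snd p (O.ι ≫ A.ι)) ≫ j) (by
          rw [Category.assoc _ j g]; exact sq1.w)
      have sq2 : IsPullback k (pullback.fst (gB ∣_ O) (pullback.snd p (O.ι ≫ A.ι))) p' j :=
        IsPullback.of_right (by rw [sq.lift_fst]; exact sq1) (sq.lift_snd _ _ _) sq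
      exact MorphismProperty.of_isPullback sq2 hp'
    have e : Set.range (O.ι ≫ A.ι) = Set.range (A.ι ''ᵁ O).ι := by
      rw [Scheme.Opens.range_ι, Scheme.Hom.comp_base, TopCat.coe_comp, Set.range_comp,
        Scheme.Opens.range_ι]
      rfl
    let i := IsOpenImmersion.isoOfRangeEq (O.ι ≫ A.ι) (A.ι ''ᵁ O).ι e
    have sq4 : IsPullback (p ⁻¹ᵁ (A.ι ''ᵁ O)).ι ((p ∣_ (A.ι ''ᵁ O)) ≫ i.inv) p (O.ι ≫ A.ι) :=
      (isPullback_morphismRestrict p (A.ι ''ᵁ O)).flip.of_iso (Iso.refl _) (Iso.refl _) i.symm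
        (Iso.refl _) (by simp) (by simp) (by simp) (by simp [i])
    rw [← (IsPullback.of_hasPullback p (O.ι ≫ A.ι)).isoIsPullback_hom_snd _ _ sq4,
      MorphismProperty.cancel_left_of_respectsIso @IsFinite,
      MorphismProperty.cancel_right_of_respectsIso @IsFinite] at h1
    exact h1
  choose O hO hfin using key
  exact IsZariskiLocalAtTarget.of_iSup_eq_top (P := @IsFinite) O
    (top_le_iff.1 fun t _ => TopologicalSpace.Opens.mem_iSup.2 ⟨t, hO t⟩) hfin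

/-- Being a piece can be checked etale locally on the base. -/
theorem isPiece_of_etale_locally (Z : X.Opens)
    (h : ∀ t : T, ∃ (V R : Scheme.{u}) (g : V ⟶ T) (g' : R ⟶ X) (f' : R ⟶ V),
      Flat g ∧ LocallyOfFinitePresentation g ∧ t ∈ Set.range g ∧ IsPullback g' f' f g ∧
        IsPiece f' (g' ⁻¹ᵁ Z)) : IsPiece f Z := by
  refine ⟨isFinite_of_etale_locally _ fun t => ?_, ⟨fun t => ?_⟩⟩
  · obtain ⟨V, R, g, g', f', hg, hg', ht, sq, hp⟩ := h t
    exact ⟨V, _, g, _, _, hg, hg', ht, isPullback_piece sq Z, hp.finite⟩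
  · obtain ⟨V, R, g, g', f', -, -, ⟨v, rfl⟩, sq, hp⟩ := h t
    obtain ⟨z, hz, rfl⟩ := hp.exists_mem v
    exact ⟨⟨g' z, hz⟩, by rw [Scheme.Hom.comp_apply]; exact congr($(sq.w) z)⟩

end Groth.FppfBoot
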