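import Groth.Agent.Flatmor4.QuasiFiniteSplit
import Groth.Agent.FBaseGeom.PurelyInsep
import Groth.Agent.FppfBoot.Piece

/-!
# Splitting pieces after an etale neighbourhood
-/

set_option autoImplicit false
set_option backward.isDefEq.respectTransparency false
set_option backward.isDefEq.respectTransparency.types false

universe u

open CategoryTheory CategoryTheory.Limits AlgebraicGeometry

namespace Groth.FppfBoot

variable {X T : Scheme.{u}}

/-- The residue field at a point is purely inseparable over that of its image. -/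
abbrev IsInsepAt (f : X ⟶ T) (x : X) : Prop :=
  letI := (f.residueFieldMap x).hom.toAlgebra
  IsPurelyInseparable (T.residueField (f x)) (X.residueField x)

theorem subsingleton_tensor {U T' : Scheme.{u}} {f : X ⟶ U} {g : T' ⟶ U}
    (A : Scheme.Pullback.Triplet f g) (hins : IsInsepAt f A.x) : Subsingleton ↑(Spec A.tensor) := by
  let := (f.residueFieldMap A.x).hom.toAlgebra
  have : IsPurelyInseparable (U.residueField (f A.x)) (X.residueField A.x) := hins
  have hu : UniversallyInjective (Spec.map (f.residueFieldMap A.x)) :=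
    (Groth.HTopHyper.isUnivHomeo_iff.mp (Groth.FBaseGeom.isUnivHomeo_specMap
      (k := U.residueField (f A.x)) (k' := X.residueField A.x))).2.1
  have h' : UniversallyInjective (Spec.map ((U.residueFieldCongr A.hx).inv ≫ f.residueFieldMap A.x)) := by
    rw [Spec.map_comp]
    exact (MorphismProperty.cancel_right_of_respectsIso @UniversallyInjective _ _).mpr hu
  have : UniversallyInjective (Spec.map A.tensorInr) :=
    MorphismProperty.of_isPullback A.isPullback_SpecMap_tensor h'
  exact (Spec.map A.tensorInr).injective.subsingleton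

/-- Over a point with purely inseparable residue field there is at most one point of a base change
with a given second projection. -/
theorem point_unique_pullback {U T' : Scheme.{u}} (f : X ⟶ U) (g : T' ⟶ U) (v : X)
    (hv : IsInsepAt f v) (z₁ z₂ : ↑(pullback f g)) (h₁ : pullback.fst f g z₁ = v)
    (h₂ : pullback.fst f g z₂ = v) (h : pullback.snd f g z₁ = pullback.snd f g z₂) : z₁ = z₂ := by
  subst h₁
  have hA : Scheme.Pullback.Triplet.ofPoint z₂ = Scheme.Pullback.Triplet.ofPoint z₁ :=
    Scheme.Pullback.Triplet.ext h₂ h.symm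
  have hsub := subsingleton_tensor (Scheme.Pullback.Triplet.ofPoint z₁) hv
  apply Scheme.Pullback.carrierEquiv.injective
  symm
  exact Scheme.Pullback.carrierEquiv_eq_iff.mpr ⟨hA, hsub.elim _ _⟩

theorem point_unique {U T' X' : Scheme.{u}} {f : X ⟶ U} {g : T' ⟶ U} {g' : X' ⟶ X} {f' : X' ⟶ T'}
    (sq : IsPullback g' f' f g) (v : X) (hv : IsInsepAt f v) (z₁ z₂ : X') (h₁ : g' z₁ = v)
    (h₂ : g' z₂ = v) (h : f' z₁ = f' z₂) : z₁ = z₂ := by
  apply sq.isoPullback.hom.isOpenEmbedding.injective
  refine point_unique_pullback f g v hv _ _ ?_ ?_ ?_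
  · rw [← Scheme.Hom.comp_apply, sq.isoPullback_hom_fst]; exact h₁
  · rw [← Scheme.Hom.comp_apply, sq.isoPullback_hom_fst]; exact h₂
  · rw [← Scheme.Hom.comp_apply, ← Scheme.Hom.comp_apply, sq.isoPullback_hom_snd]; exact h

/-- After an etale neighbourhood of `t`, every set of points over finitely many given points of the
fibre is cut out by a finite open. -/
theorem exists_piece_split (f : X ⟶ T) [IsSeparated f] [LocallyOfFiniteType f] [LocallyQuasiFinite f]
    (t : T) (s : Set X) (hs : s.Finite) (hst : ∀ x ∈ s, f x = t) :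
    ∃ (U : Scheme.{u}) (g : U ⟶ T) (u : U), Etale g ∧ g u = t ∧
      (∀ w : ↑(pullback f g), pullback.snd f g w = u → pullback.fst f g w ∈ s →
        IsInsepAt (pullback.snd f g) w) ∧
      ∀ J : Set ↑(pullback f g), (∀ w ∈ J, pullback.snd f g w = u ∧ pullback.fst f g w ∈ s) →
        ∃ Z : (pullback f g).Opens, IsFinite (Z.ι ≫ pullback.snd f g) ∧
          ∀ w, pullback.snd f g w = u → (w ∈ Z ↔ w ∈ J) := by
  have := hs.fintype
  let e : Fin (Fintype.card s) ≃ s := (Fintype.equivFin s).symm
  obtain ⟨U, g, u, hg, hu, ι', _, V, v, hV, hinj, hall⟩ :=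
    Groth.Flatmor4.exists_split_purelyInseparable f t (fun i => (e i : X))
      (Subtype.val_injective.comp e.injective) (fun i => hst _ (e i).2) (fun i => f.quasiFiniteAt _)
  have hall' : ∀ w, pullback.snd f g w = u → pullback.fst f g w ∈ s → ∃ i j, w = v i j := by
    intro w hw hws
    obtain ⟨j, hj⟩ := hall w (e.symm ⟨_, hws⟩) hw (by simp)
    exact ⟨_, j, hj⟩
  refine ⟨U, g, u, hg, hu, fun w hw hws => ?_, fun J hJ => ?_⟩
  · obtain ⟨i, j, rfl⟩ := hall' w hw hws
    exact (hV i j).2.2.2.2.1.2
  let κ := {p : Σ i, ι' i // v p.1 p.2 ∈ J}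
  refine ⟨⨆ p : κ, V p.1.1 p.1.2, Groth.Flatmor4.isFinite_iSup _ _ fun p => (hV _ _).2.1, fun w hw => ?_⟩
  rw [TopologicalSpace.Opens.mem_iSup]
  constructor
  · rintro ⟨⟨⟨i, j⟩, hp⟩, hwp⟩
    rwa [(hV i j).2.2.2.1 w hwp hw]
  · intro hwJ
    obtain ⟨i, j, rfl⟩ := hall' w hw (hJ w hwJ).2
    exact ⟨⟨⟨i, j⟩, hwJ⟩, (hV i j).1⟩

end Groth.FppfBoot
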