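import Groth.Agent.FppfBoot.PiecePsh
import Groth.Agent.FppfBoot.PieceSplit

/-!
# An etale chart for pieces
-/

set_option autoImplicit false
set_option backward.isDefEq.respectTransparency false
set_option backward.isDefEq.respectTransparency.types false

universe u

open CategoryTheory CategoryTheory.Limits AlgebraicGeometry Opposite AlgSp

noncomputable section

namespace Groth.FppfBoot

open Groth.AlgSpBasic Groth.AlgSpBoot

variable {S : Scheme.{u}} {F : Sp S} {W : Over S} {p : (yon S).obj W ⟶ F}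
  {hp : RepWith (@Flat ⊓ @LocallyOfFinitePresentation) p}

/-- Restriction of pieces along a morphism, to a prescribed composite. -/
def PieceOn.pull {T T' : Over S} {b : (yon S).obj T ⟶ F} {b' : (yon S).obj T' ⟶ F} (Z : PieceOn hp b)
    (k : T' ⟶ T) (h : (yon S).map k ≫ b = b') : PieceOn hp b' :=
  ⟨(trans hp b b' k h).left ⁻¹ᵁ Z.1, Z.2.preimage (isPullback_trans hp b b' k h)⟩

theorem PieceOn.pull_pull {T T' T'' : Over S} {b : (yon S).obj T ⟶ F} {b' : (yon S).obj T' ⟶ F}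
    {b'' : (yon S).obj T'' ⟶ F} (Z : PieceOn hp b) (k : T' ⟶ T) (l : T'' ⟶ T')
    (h : (yon S).map k ≫ b = b') (h' : (yon S).map l ≫ b' = b'') (h'' : (yon S).map (l ≫ k) ≫ b = b'') :
    (Z.pull k h).pull l h' = Z.pull (l ≫ k) h'' :=
  Subtype.ext (preimage_trans_trans hp rfl h h' h'' Z.1)

theorem PieceOn.pull_congr {T T' : Over S} {b : (yon S).obj T ⟶ F} {b' : (yon S).obj T' ⟶ F}
    (Z : PieceOn hp b) {k k' : T' ⟶ T} (e : k = k') (h : (yon S).map k ≫ b = b') :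
    Z.pull k h = Z.pull k' (e ▸ h) := by
  subst e
  rfl

/-- A morphism to the base as an object over it. -/
abbrev ovr {T : Over S} {V : Scheme.{u}} (k : V ⟶ T.left) : Over S := Over.mk (k ≫ T.hom)

/-- The morphism to the base. -/
abbrev ovrHom {T : Over S} {V : Scheme.{u}} (k : V ⟶ T.left) : ovr k ⟶ T := Over.homMk k rfl

variable [IsSeparated W.hom] (hq : RepWith @LocallyQuasiFinite p) {T : Over S} (a : (yon S).obj T ⟶ F)

theorem etale_homMk {X Y : Over S} (f : X.left ⟶ Y.left) [Etale f] (h : f ≫ Y.hom = X.hom) :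
    Etale (Over.homMk f h : X ⟶ Y).left := ‹_›

theorem isPullback_of_iso {X Y Z : Scheme.{u}} (e : X ≅ Y) {f : X ⟶ Z} {g : Y ⟶ Z}
    (h : e.hom ≫ g = f) : IsPullback e.hom f g (𝟙 Z) :=
  IsPullback.of_horiz_isIso ⟨by rw [h, Category.comp_id]⟩

include hq in
/-- A chart: an etale scheme over `T` with a piece. -/
theorem exists_etale_chart_piece :
    ∃ (C : Over S) (c : C ⟶ T) (Z : PieceOn hp ((yon S).map c ≫ a)), Etale c.left ∧
      ∀ {T' : Over S} (k : T' ⟶ T) (Z' : PieceOn hp ((yon S).map k ≫ a)) (t' : ↥T'.left),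
        ∃ (T'' : Over S) (e : T'' ⟶ T') (l : T'' ⟶ C) (b : (yon S).obj T'' ⟶ F)
          (h₁ : (yon S).map e ≫ (yon S).map k ≫ a = b) (h₂ : (yon S).map l ≫ (yon S).map c ≫ a = b),
          Etale e.left ∧ t' ∈ Set.range e.left ∧ e ≫ k = l ≫ c ∧ Z'.pull e h₁ = Z.pull l h₂ := by
  classical
  have : ∀ {T' : Over S} (b : (yon S).obj T' ⟶ F), LocallyQuasiFinite (rsnd hp b) := fun b =>
    hq.property b _ _ (hp.rep.isPullback b)
  -- choices of etale neighbourhoods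
  let κ := Σ t : T.left, {s : Set ↑(Rp hp a).left // s.Finite ∧ ∀ x ∈ s, rsnd hp a x = t}
  have hsplit := fun i : κ => exists_piece_split (rsnd hp a) i.1 i.2.1 i.2.2.1 i.2.2.2
  choose U g u hg hgu hins hJ using hsplit
  have : ∀ i, Etale (g i) := hg
  let aU : ∀ i : κ, (yon S).obj (ovr (g i)) ⟶ F := fun i => (yon S).map (ovrHom (g i)) ≫ a
  have sq0 : ∀ i : κ, IsPullback (trans hp a (aU i) (ovrHom (g i)) rfl).left (rsnd hp (aU i))
      (rsnd hp a) (g i) := fun i => isPullback_trans hp a (aU i) (ovrHom (g i)) rfl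
  let eU : ∀ i : κ, (Rp hp (aU i)).left ≅ pullback (rsnd hp a) (g i) := fun i => (sq0 i).isoPullback
  have heU₁ : ∀ i, (eU i).hom ≫ pullback.fst (rsnd hp a) (g i) =
      (trans hp a (aU i) (ovrHom (g i)) rfl).left := fun i => (sq0 i).isoPullback_hom_fst
  have heU₂ : ∀ i, (eU i).hom ≫ pullback.snd (rsnd hp a) (g i) = rsnd hp (aU i) :=
    fun i => (sq0 i).isoPullback_hom_snd
  let ι := Σ i : κ, {J : Set ↑(pullback (rsnd hp a) (g i)) //
    ∀ w ∈ J, pullback.snd (rsnd hp a) (g i) w = u i ∧ pullback.fst (rsnd hp a) (g i) w ∈ i.2.1}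
  choose ZJ hZfin hZmem using fun j : ι => hJ j.1 j.2.1 j.2.2
  let O : ∀ j : ι, (U j.1).Opens := fun j =>
    ⟨pullback.snd (rsnd hp a) (g j.1) '' (ZJ j), (pullback.snd _ (g j.1)).isOpenMap _ (ZJ j).2⟩
  let V : ι → Over S := fun j => ovr ((O j).ι ≫ g j.1)
  let gV : ∀ j, V j ⟶ T := fun j => ovrHom ((O j).ι ≫ g j.1)
  let jV : ∀ j, V j ⟶ ovr (g j.1) := fun j => Over.homMk (O j).ι (Category.assoc _ _ _).symm
  have hjV : ∀ j, jV j ≫ ovrHom (g j.1) = gV j := fun j => rfl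
  have hjVa : ∀ j, (yon S).map (jV j) ≫ (yon S).map (ovrHom (g j.1)) ≫ a = (yon S).map (gV j) ≫ a :=
    fun j => by rw [← Category.assoc, ← Functor.map_comp, hjV]
  let ZU : ∀ j : ι, (Rp hp ((yon S).map (ovrHom (g j.1)) ≫ a)).left.Opens := fun j => (eU j.1).hom ⁻¹ᵁ ZJ j
  let ZV : ∀ j, PieceOn hp ((yon S).map (gV j) ≫ a) := fun j =>
    ⟨(trans hp _ _ (jV j) (hjVa j)).left ⁻¹ᵁ ZU j, by
      have sq := isPullback_trans hp ((yon S).map (ovrHom (g j.1)) ≫ a) _ (jV j) (hjVa j)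
      have sqe : IsPullback (eU j.1).hom (rsnd hp ((yon S).map (ovrHom (g j.1)) ≫ a))
          (pullback.snd (rsnd hp a) (g j.1)) (𝟙 _) :=
        IsPullback.of_horiz_isIso ⟨(heU₂ j.1).trans (Category.comp_id _).symm⟩
      have sq' := sq.paste_horiz sqe
      rw [Category.comp_id] at sq'
      refine ⟨MorphismProperty.of_isPullback (isPullback_piece sq' (ZJ j)) (hZfin j), ⟨fun o => ?_⟩⟩
      obtain ⟨z, hz, hzo⟩ := o.2
      obtain ⟨z', hz₁, hz₂⟩ := Scheme.exists_preimage_of_isPullback sq' z o hzo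
      exact ⟨⟨z', by change _ ∈ ZJ j; rw [← Scheme.Hom.comp_apply, hz₁]; exact hz⟩, by
        rw [Scheme.Hom.comp_apply]; exact hz₂⟩⟩
  have hgV : ∀ j, Etale (gV j).left := fun j => inferInstanceAs (Etale ((O j).ι ≫ g j.1))
  -- the coproduct
  let C : Over S := ovr (Limits.Sigma.desc fun j => (gV j).left)
  let c : C ⟶ T := ovrHom _
  let inj : ∀ j, V j ⟶ C := fun j => Over.homMk (Limits.Sigma.ι (fun j => (V j).left) j) (by
    change _ ≫ _ ≫ _ = _
    rw [Sigma.ι_desc_assoc]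
    rfl)
  have hinj : ∀ j, inj j ≫ c = gV j := fun j => Over.OverMorphism.ext (Sigma.ι_desc _ _)
  have hinja : ∀ j, (yon S).map (inj j) ≫ (yon S).map c ≫ a = (yon S).map (gV j) ≫ a := fun j => by
    rw [← Category.assoc, ← Functor.map_comp, hinj]
  have : ∀ j, IsOpenImmersion (inj j).left := fun j =>
    inferInstanceAs (IsOpenImmersion (Limits.Sigma.ι (fun j => (V j).left) j))
  have hc : Etale c.left := by
    refine IsZariskiLocalAtSource.sigmaDesc (P := @Etale) fun j => hgV j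
  let τ := fun j => (trans hp ((yon S).map c ≫ a) ((yon S).map (gV j) ≫ a) (inj j) (hinja j)).left
  have sqτ := fun j => isPullback_trans hp ((yon S).map c ≫ a) ((yon S).map (gV j) ≫ a) (inj j) (hinja j)
  have hτ : ∀ j, IsOpenImmersion (τ j) := fun j => MorphismProperty.of_isPullback (sqτ j).flip inferInstance
  let Z : (Rp hp ((yon S).map c ≫ a)).left.Opens := ⨆ j, τ j ''ᵁ (ZV j).1
  have hZτ : ∀ j, τ j ⁻¹ᵁ Z = (ZV j).1 := fun j => by
    refine TopologicalSpace.Opens.ext (Set.ext fun z => ⟨fun hz => ?_, fun hz =>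
      TopologicalSpace.Opens.mem_iSup.2 ⟨j, ⟨z, hz, rfl⟩⟩⟩)
    obtain ⟨i, z', hz', hzz⟩ := TopologicalSpace.Opens.mem_iSup.1 (show τ j z ∈ Z from hz)
    have h : (inj i).left (rsnd hp _ z') = (inj j).left (rsnd hp _ z) := by
      have e1 := congr($((sqτ i).w) z')
      have e2 := congr($((sqτ j).w) z)
      simp only [Scheme.Hom.comp_apply] at e1 e2
      exact e1.symm.trans ((congrArg (rsnd hp ((yon S).map c ≫ a)) hzz).trans e2)
    obtain rfl : i = j := congrArg Sigma.fst ((sigmaι_eq_iff (fun j => (V j).left) i j _ _).mp h)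
    exact (τ i).isOpenEmbedding.injective hzz ▸ hz'
  have hZ : IsPiece (rsnd hp ((yon S).map c ≫ a)) Z := isPiece_of_etale_locally Z fun x => by
    obtain ⟨j, y, hy⟩ := (sigmaOpenCover fun j => (V j).left).exists_eq x
    exact ⟨_, _, (inj j).left, τ j, _, inferInstance, inferInstance, ⟨y, hy⟩, sqτ j,
      (hZτ j).symm ▸ (ZV j).2⟩
  refine ⟨C, c, ⟨Z, hZ⟩, hc, fun {T'} k Z' t' => ?_⟩
  -- the finite set of images
  let b' := (yon S).map k ≫ a
  let τ' := (trans hp a b' k rfl).left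
  have sq' := isPullback_trans hp a b' k rfl
  let s : Set ↑(Rp hp a).left := τ' '' {z | z ∈ Z'.1 ∧ rsnd hp b' z = t'}
  have hs : s.Finite ∧ ∀ x ∈ s, rsnd hp a x = k.left t' := ⟨(Z'.2.finite_fibre t').image _, by
    rintro _ ⟨z, ⟨-, hz⟩, rfl⟩
    rw [← Scheme.Hom.comp_apply, sq'.w, Scheme.Hom.comp_apply, hz]⟩
  let i : κ := ⟨k.left t', s, hs⟩
  obtain ⟨t₂, ht₂₁, ht₂₂⟩ := Scheme.Pullback.exists_preimage_pullback t' (u i) (f := k.left) (g := g i) (hgu i).symm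
  let T₂ : Over S := Over.mk (pullback.fst k.left (g i) ≫ T'.hom)
  let e₀ : T₂ ⟶ T' := Over.homMk (pullback.fst k.left (g i)) rfl
  let m : T₂ ⟶ ovr (g i) := Over.homMk (pullback.snd k.left (g i)) (by
    change pullback.snd k.left (g i) ≫ g i ≫ T.hom = pullback.fst k.left (g i) ≫ T'.hom
    rw [← pullback.condition_assoc, Over.w k])
  have hm : e₀ ≫ k = m ≫ ovrHom (g i) := Over.OverMorphism.ext pullback.condition
  let b₂ := (yon S).map e₀ ≫ b'
  have hma : (yon S).map m ≫ (yon S).map (ovrHom (g i)) ≫ a = b₂ := by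
    rw [← Category.assoc, ← Functor.map_comp, ← hm, Functor.map_comp, Category.assoc]
  let π' := (trans hp b' b₂ e₀ rfl).left
  let πU := (trans hp ((yon S).map (ovrHom (g i)) ≫ a) b₂ m hma).left
  let πP : (Rp hp b₂).left ⟶ pullback (rsnd hp a) (g i) := πU ≫ (eU i).hom
  have sqP : IsPullback πP (rsnd hp b₂) (pullback.snd (rsnd hp a) (g i)) m.left := by
    have h1 := (isPullback_trans hp _ b₂ m hma).paste_horiz (isPullback_of_iso (eU i) (heU₂ i))
    rwa [Category.comp_id] at h1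
  have hπP : πP ≫ pullback.fst (rsnd hp a) (g i) = π' ≫ τ' := by
    change (πU ≫ (eU i).hom) ≫ _ = _
    rw [Category.assoc, heU₁ i]
    change (trans hp (aU i) b₂ m hma ≫ trans hp a (aU i) (ovrHom (g i)) rfl).left =
      (trans hp b' b₂ e₀ rfl ≫ trans hp a b' k rfl).left
    rw [trans_trans hp a (aU i) b₂ (ovrHom (g i)) m (m ≫ ovrHom (g i)) rfl rfl hma
        (by rw [← hma, Functor.map_comp, Category.assoc]),
      trans_trans hp a b' b₂ k e₀ (m ≫ ovrHom (g i)) hm rfl rfl (by rw [← hma, Functor.map_comp, Category.assoc])]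
  let J : Set ↑(pullback (rsnd hp a) (g i)) := πP '' {z | π' z ∈ Z'.1 ∧ rsnd hp b₂ z = t₂}
  have hJ' : ∀ w ∈ J, pullback.snd (rsnd hp a) (g i) w = u i ∧ pullback.fst (rsnd hp a) (g i) w ∈ i.2.1 := by
    rintro _ ⟨z, ⟨hz, hzt⟩, rfl⟩
    refine ⟨?_, ?_⟩
    · rw [← Scheme.Hom.comp_apply, sqP.w, Scheme.Hom.comp_apply, hzt]
      exact ht₂₂
    · refine ⟨π' z, ⟨hz, ?_⟩, by rw [← Scheme.Hom.comp_apply, ← hπP, Scheme.Hom.comp_apply]⟩
      rw [← Scheme.Hom.comp_apply, (isPullback_trans hp b' b₂ e₀ rfl).w, Scheme.Hom.comp_apply, hzt]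
      exact ht₂₁
  let j : ι := ⟨i, J, hJ'⟩
  obtain ⟨z₁, hz₁, hz₁t⟩ := Z'.2.exists_mem t'
  obtain ⟨z₂, hz₂, hz₂t⟩ := Scheme.exists_preimage_of_isPullback (isPullback_trans hp b' b₂ e₀ rfl) z₁ t₂
    (hz₁t.trans ht₂₁.symm)
  have huO : u i ∈ O j := by
    have hwJ : πP z₂ ∈ J := ⟨z₂, ⟨show π' z₂ ∈ Z'.1 by rw [show π' z₂ = z₁ from hz₂]; exact hz₁, hz₂t⟩, rfl⟩
    exact ⟨πP z₂, (hZmem j _ (hJ' _ hwJ).1).2 hwJ, (hJ' _ hwJ).1⟩
  -- restrict to the preimage of `O j`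
  let T₃ : Over S := Over.mk ((m.left ⁻¹ᵁ O j).ι ≫ T₂.hom)
  let e₁ : T₃ ⟶ T₂ := Over.homMk (m.left ⁻¹ᵁ O j).ι rfl
  let t₃ : ↥T₃.left := ⟨t₂, show m.left t₂ ∈ O j by rw [show m.left t₂ = u i from ht₂₂]; exact huO⟩
  let m₃ : T₃ ⟶ V j := Over.homMk (m.left ∣_ O j) (by
    change (m.left ∣_ O j) ≫ ((O j).ι ≫ g i) ≫ T.hom = (m.left ⁻¹ᵁ O j).ι ≫ T₂.hom
    rw [← Over.w m, ← Category.assoc, ← Category.assoc, morphismRestrict_ι, Category.assoc, Category.assoc]
    rfl)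
  have hm₃ : m₃ ≫ jV j = e₁ ≫ m := Over.OverMorphism.ext (morphismRestrict_ι _ _)
  let b₃ := (yon S).map e₁ ≫ b₂
  have hA : (yon S).map (e₁ ≫ e₀) ≫ b' = b₃ := by rw [Functor.map_comp, Category.assoc]
  have hB : (yon S).map m₃ ≫ (yon S).map (gV j) ≫ a = b₃ := by
    rw [← hjVa, ← Category.assoc, ← Functor.map_comp, hm₃, Functor.map_comp, Category.assoc, hma]
  let A := Z'.pull (e₁ ≫ e₀) hA
  let B := (ZV j).pull m₃ hB
  have : IsSeparated (rsnd hp b₃) := inferInstance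
  have hE : t₃ ∈ agree A.2 B.2 := by
    refine (mem_agree_iff A.2 B.2 t₃).2 fun z hz => ?_
    let w := (trans hp b₂ b₃ e₁ rfl).left z
    have hw : rsnd hp b₂ w = t₂ := by
      rw [← Scheme.Hom.comp_apply, (isPullback_trans hp b₂ b₃ e₁ rfl).w, Scheme.Hom.comp_apply, hz]
      rfl
    have hwA : z ∈ A.1 ↔ π' w ∈ Z'.1 :=
      SetLike.ext_iff.1 (preimage_trans_trans hp rfl rfl rfl hA Z'.1).symm z
    have hwB : z ∈ B.1 ↔ πP w ∈ ZJ j := by
      have h1 := preimage_trans_trans hp hm₃ (hjVa j) hB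
        (show (yon S).map (e₁ ≫ m) ≫ (yon S).map (ovrHom (g i)) ≫ a = b₃ by
          rw [Functor.map_comp, Category.assoc, hma]) (ZU j)
      have h2 := preimage_trans_trans hp rfl hma rfl
        (show (yon S).map (e₁ ≫ m) ≫ (yon S).map (ovrHom (g i)) ≫ a = b₃ by
          rw [Functor.map_comp, Category.assoc, hma]) (ZU j)
      refine (SetLike.ext_iff.1 (h1.trans h2.symm) z).trans ?_
      simp only [ZU, πP, Scheme.Hom.comp_apply]
      rfl
    rw [hwA, hwB]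
    have hπw : pullback.snd (rsnd hp a) (g i) (πP w) = u i := by
      rw [← Scheme.Hom.comp_apply, sqP.w, Scheme.Hom.comp_apply, hw]
      exact ht₂₂
    refine ⟨fun h => (hZmem j _ hπw).2 ⟨w, ⟨h, hw⟩, rfl⟩, fun h => ?_⟩
    obtain ⟨w', ⟨hw'Z, hw't⟩, hw'e⟩ := (hZmem j _ hπw).1 h
    have hins' := hins i (πP w) hπw (hw'e ▸ (hJ' _ ⟨w', ⟨hw'Z, hw't⟩, rfl⟩).2)
    have heq : w' = w := point_unique sqP (πP w) hins' w' w hw'e rfl (hw't.trans hw.symm)
    exact heq ▸ hw'Z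
  let E := agree A.2 B.2
  let T₄ : Over S := Over.mk (E.ι ≫ T₃.hom)
  let e₂ : T₄ ⟶ T₃ := Over.homMk E.ι rfl
  refine ⟨T₄, e₂ ≫ e₁ ≫ e₀, e₂ ≫ m₃ ≫ inj j, (yon S).map e₂ ≫ b₃, ?_, ?_, ?_, ?_, ?_, ?_⟩
  · rw [Functor.map_comp, Category.assoc, hA]
  · rw [Functor.map_comp, Functor.map_comp, Category.assoc, Category.assoc, hinja, hB]
  · have : Etale e₀.left := inferInstanceAs (Etale (pullback.fst k.left (g i)))
    have : Etale e₁.left := etale_homMk _ _
    have : Etale e₂.left := etale_homMk _ _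
    rw [Over.comp_left, Over.comp_left]
    infer_instance
  · exact ⟨⟨t₃, hE⟩, ht₂₁⟩
  · rw [Category.assoc, Category.assoc, Category.assoc, Category.assoc, hm, hinj, ← hjV,
      reassoc_of% hm₃]
  · have h1 : A.pull e₂ rfl = B.pull e₂ rfl := by
      refine Subtype.ext ((preimage_eq_iff (isPullback_trans hp b₃ _ e₂ rfl) A.2 B.2).2 ?_)
      rintro _ ⟨x, rfl⟩
      exact x.2
    rw [PieceOn.pull_pull _ _ _ _ _ (by rw [Functor.map_comp, Category.assoc, hA])] at h1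
    refine h1.trans ?_
    have h2 : PieceOn.pull (⟨Z, hZ⟩ : PieceOn hp ((yon S).map c ≫ a)) (inj j) (hinja j) = ZV j := Subtype.ext (hZτ j)
    rw [show B = PieceOn.pull (PieceOn.pull (⟨Z, hZ⟩ : PieceOn hp ((yon S).map c ≫ a)) (inj j) (hinja j)) m₃ hB by rw [h2],
      PieceOn.pull_pull _ _ _ _ _ (by rw [Functor.map_comp, Category.assoc, hB]),
      PieceOn.pull_pull _ _ _ _ _ (by simp only [Functor.map_comp, Category.assoc, hinja, hB])]
    exact PieceOn.pull_congr _ (Category.assoc _ _ _) _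

end Groth.FppfBoot
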