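import Groth.Agent.FppfBoot.PieceRep

/-!
# The sheaf of pieces and its finite locally free cover
-/

set_option autoImplicit false
set_option backward.isDefEq.respectTransparency false
set_option backward.isDefEq.respectTransparency.types false

universe u

open CategoryTheory CategoryTheory.Limits AlgebraicGeometry Opposite AlgSp

noncomputable section

namespace Groth.FppfBoot

open Groth.AlgSpBasic Groth.AlgSpBoot

variable {S : Scheme.{u}} {F : Sp S} {W : Over S} {p : (yon S).obj W ⟶ F}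
  (hp : RepWith (@Flat ⊓ @LocallyOfFinitePresentation) p) [IsSeparated W.hom]
  (hq : RepWith @LocallyQuasiFinite p)

include hq in
theorem isSheaf_pieces_fppf : Presheaf.IsSheaf (J S) (pieces hp) := by
  refine isSheaf_of_relativelyRepresentable (piecesMap hp) (fun T ξ => ?_) F.property
  obtain ⟨G, fst, ĝ, -, -, sq⟩ := exists_pieces_scheme hp hq (ObjectProperty.homMk ξ : (yon S).obj T ⟶ F)
  exact ⟨G, ĝ, fst, sq⟩

/-- The sheaf of pieces. -/
def piecesSp : Sp S := ⟨pieces hp, isSheaf_pieces_fppf hp hq⟩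

/-- The map of the sheaf of pieces to `F`. -/
def piecesπ : piecesSp hp hq ⟶ F := ObjectProperty.homMk (piecesMap hp)

theorem repWith_etale_piecesπ : RepWith @Etale (piecesπ hp hq) :=
  repWith_of_exists fun T a => by
    obtain ⟨G, fst, ĝ, he, -, sq⟩ := exists_pieces_scheme hp hq a
    exact ⟨G, ObjectProperty.homMk fst, ĝ,
      IsPullback.of_map_of_faithful (sheafToPresheaf (J S) (Type (u + 1))) sq, he⟩

/-- The section of the chart over itself. -/
def selfSec {T : Over S} {b : (yon S).obj T ⟶ F} (w : T ⟶ W) (h : (yon S).map w ≫ p = b) : T ⟶ Rp hp b :=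
  hp.rep.lift' w (𝟙 T) (by rw [CategoryTheory.Functor.map_id, Category.id_comp, h])

theorem selfSec_trans {T T' : Over S} {b : (yon S).obj T ⟶ F} {b' : (yon S).obj T' ⟶ F} (w : T ⟶ W)
    (h : (yon S).map w ≫ p = b) (k : T' ⟶ T) (hk : (yon S).map k ≫ b = b') :
    selfSec hp (k ≫ w) (by rw [Functor.map_comp, Category.assoc, h, hk]) ≫ trans hp b b' k hk =
      k ≫ selfSec hp w h :=
  hp.rep.hom_ext'
    (by
      simp only [Category.assoc, trans_fst, selfSec, hp.rep.lift'_fst])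
    (by
      simp only [Category.assoc, trans_snd, selfSec, hp.rep.lift'_snd, Category.comp_id]
      simp only [← Category.assoc, hp.rep.lift'_snd, Category.id_comp])

include hq in
/-- A finite locally free cover of the sheaf of pieces by a scheme which is separated, locally
quasi-finite and locally of finite type over an affine scheme. -/
theorem exists_finLocFree_cover :
    ∃ (P : Over S) (f : P ⟶ W) (φ : (yon S).obj P ⟶ piecesSp hp hq),
      IsSeparated f.left ∧ LocallyQuasiFinite f.left ∧ LocallyOfFiniteType f.left ∧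
      RepWith (@IsFinite ⊓ @Flat ⊓ @LocallyOfFinitePresentation ⊓ @Surjective) φ := by
  obtain ⟨G, fst, ĝ, hĝ, hĝs, sqG⟩ := exists_pieces_scheme hp hq p
  let u : Σ b : (yon S).obj G ⟶ F, PieceOn hp b := pEquiv fst
  have hu₁ : u.1 = (yon S).map ĝ ≫ p := (piecesMap_eq_iff p ĝ u).1 (by
    have := congr(($(sqG.w)).app (op G) ⟨𝟙 G⟩)
    exact this.trans (congrArg (p.hom.app (op G)) (congrArg ULift.up (Category.id_comp ĝ))))
  let Z : PieceOn hp ((yon S).map ĝ ≫ p) := u.2.pull (𝟙 G) (by rw [CategoryTheory.Functor.map_id, Category.id_comp, hu₁])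
  have hu : u = ⟨_, Z⟩ := (sec_eq Z u.2 (by rw [CategoryTheory.Functor.map_id, Category.id_comp, hu₁]) rfl).symm
  -- the universal property of `G`
  have hGext : ∀ {T' : Over S} (m m' : T' ⟶ G), m ≫ ĝ = m' ≫ ĝ →
      (pieces hp).map m.op u = (pieces hp).map m'.op u → m = m' := fun m m' h₁ h₂ =>
    congrArg ULift.down ((Types.isPullback_iff _ _ _ _).1 (isPullback_app p sqG _) |>.2.1 ⟨m⟩ ⟨m'⟩
      ⟨by rw [app_eq_map, app_eq_map]; exact h₂, congrArg ULift.up h₁⟩)
  have hGex : ∀ {T' : Over S} (w : T' ⟶ W) (x : (pieces hp).obj (op T')), x.1 = (yon S).map w ≫ p →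
      ∃ m : T' ⟶ G, m ≫ ĝ = w ∧ (pieces hp).map m.op u = x := fun w x hx => by
    obtain ⟨⟨m⟩, hm₁, hm₂⟩ := (Types.isPullback_iff _ _ _ _).1 (isPullback_app p sqG _) |>.2.2 x ⟨w⟩
      ((piecesMap_eq_iff p w x).2 hx)
    exact ⟨m, congrArg ULift.down hm₂, (app_eq_map fst m).symm.trans hm₁⟩
  -- the open of marked pieces
  let σ := selfSec hp (b := (yon S).map ĝ ≫ p) ĝ rfl
  let P : Over S := Over.mk ((σ.left ⁻¹ᵁ Z.1).ι ≫ G.hom)
  let ι : P ⟶ G := Over.homMk (σ.left ⁻¹ᵁ Z.1).ι rfl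
  have hιr : ∀ x, σ.left (ι.left x) ∈ Z.1 := fun x => x.2
  let φ : (yon S).obj P ⟶ piecesSp hp hq := (yon S).map ι ≫ ObjectProperty.homMk fst
  have hφ : ∀ {T' : Over S} (m : T' ⟶ P),
      φ.hom.app (op T') ⟨m⟩ = (pieces hp).map (m ≫ ι).op u := fun m => app_eq_map fst (m ≫ ι)
  have hmap : ∀ {T' : Over S} (m : T' ⟶ G) (b : (yon S).obj T' ⟶ F) (hb : (yon S).map m ≫ (yon S).map ĝ ≫ p = b),
      (pieces hp).map m.op u = (⟨b, Z.pull m hb⟩ : Σ b : (yon S).obj T' ⟶ F, PieceOn hp b) := fun m b hb => by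
    rw [hu]
    exact pieces_map_mk Z m hb
  have : LocallyQuasiFinite ĝ.left := locallyQuasiFinite_of_formallyUnramified _
  have hι : IsOpenImmersion ι.left := inferInstanceAs (IsOpenImmersion (σ.left ⁻¹ᵁ Z.1).ι)
  refine ⟨P, ι ≫ ĝ, φ, by rw [Over.comp_left]; infer_instance, by rw [Over.comp_left]; infer_instance,
    by rw [Over.comp_left]; infer_instance, repWith_of_exists fun T h => ?_⟩
  let x : Σ a : (yon S).obj T ⟶ F, PieceOn hp a := pEquiv h.hom
  let V : Over S := Over.mk (x.2.1.ι ≫ (Rp hp x.1).hom)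
  let z : V ⟶ Rp hp x.1 := Over.homMk x.2.1.ι rfl
  have hz : Mono z := ⟨fun a b e => Over.OverMorphism.ext ((cancel_mono x.2.1.ι).1 congr(($e).left))⟩
  have hzr : ∀ y, z.left y ∈ x.2.1 := fun y => y.2
  let zT := z ≫ hp.rep.snd x.1
  let zW := z ≫ hp.rep.fst' x.1
  have hzb : (yon S).map zT ≫ x.1 = (yon S).map zW ≫ p := by
    simp only [zT, zW, Functor.map_comp, Category.assoc]
    rw [(hp.rep.isPullback' x.1).w]
  obtain ⟨l, hlĝ, hlu⟩ := hGex zW (⟨(yon S).map zT ≫ x.1, x.2.res hp zT⟩ : Σ b : (yon S).obj V ⟶ F, PieceOn hp b) hzb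
  have hlb : (yon S).map l ≫ (yon S).map ĝ ≫ p = (yon S).map zT ≫ x.1 := by
    rw [← Category.assoc, ← Functor.map_comp, hlĝ, hzb]
  have hlpiece : Z.pull l hlb = x.2.res hp zT :=
    piece_eq_of_sec_eq ((hmap l _ hlb).symm.trans hlu)
  let sV := selfSec hp (b := (yon S).map zT ≫ x.1) (l ≫ ĝ)
    (by rw [Functor.map_comp, Category.assoc, hlb])
  have hsV₁ : sV ≫ trans hp ((yon S).map ĝ ≫ p) _ l hlb = l ≫ σ := selfSec_trans hp ĝ rfl l hlb
  have hsV₂ : sV ≫ trans hp x.1 _ zT rfl = z :=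
    hp.rep.hom_ext' (by
        rw [Category.assoc, trans_fst]
        simp only [sV, selfSec, hp.rep.lift'_fst]
        exact hlĝ)
      (by
        rw [Category.assoc, trans_snd, ← Category.assoc]
        simp only [sV, selfSec, hp.rep.lift'_snd, Category.id_comp]
        rfl)
  have hlP : Set.range l.left ⊆ Set.range ι.left := by
    rintro _ ⟨y, rfl⟩
    refine ⟨⟨l.left y, ?_⟩, rfl⟩
    change σ.left (l.left y) ∈ Z.1
    rw [← Scheme.Hom.comp_apply, ← Over.comp_left, ← hsV₁, Over.comp_left, Scheme.Hom.comp_apply]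
    change sV.left y ∈ (Z.pull l hlb).1
    rw [hlpiece]
    change (trans hp x.1 _ zT rfl).left (sV.left y) ∈ x.2.1
    rw [← Scheme.Hom.comp_apply, ← Over.comp_left, hsV₂]
    exact hzr y
  let lP : V ⟶ P := Over.homMk (IsOpenImmersion.lift ι.left l.left hlP) (by
    change IsOpenImmersion.lift ι.left l.left hlP ≫ ι.left ≫ G.hom = _
    rw [IsOpenImmersion.lift_fac_assoc, Over.w])
  have hlP' : lP ≫ ι = l := Over.OverMorphism.ext (IsOpenImmersion.lift_fac _ _ _)
  refine ⟨V, (yon S).map lP, zT, ?_, ?_⟩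
  · refine IsPullback.of_map_of_faithful (sheafToPresheaf (J S) (Type (u + 1))) ?_
    refine IsPullback.of_forall_isPullback_app fun T' => (Types.isPullback_iff _ _ _ _).2 ⟨?_, ?_, ?_⟩
    · ext ⟨n⟩
      change φ.hom.app T' ⟨n ≫ lP⟩ = h.hom.app T' ⟨n ≫ zT⟩
      refine ((hφ (n ≫ lP)).trans ?_).trans (app_eq_map h.hom (n ≫ zT)).symm
      rw [Category.assoc, hlP', op_comp, op_comp, Functor.map_comp_apply, Functor.map_comp_apply, hlu]
      rfl
    · rintro ⟨n⟩ ⟨n'⟩ ⟨h₁, h₂⟩
      have e₁ : n ≫ lP = n' ≫ lP := congrArg ULift.down h₁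
      have e₂ : n ≫ zT = n' ≫ zT := congrArg ULift.down h₂
      have e₃ : n ≫ zW = n' ≫ zW := by
        rw [← hlĝ, ← hlP', Category.assoc, ← reassoc_of% e₁]
      have : n ≫ z = n' ≫ z :=
        hp.rep.hom_ext' (by simpa only [Category.assoc] using e₃) (by simpa only [Category.assoc] using e₂)
      rw [(cancel_mono z).1 this]
    · rintro ⟨m⟩ ⟨n⟩ hmn
      have hmn' : (pieces hp).map (m ≫ ι).op u = (pieces hp).map n.op x := by
        rw [← hφ]
        exact hmn.trans (app_eq_map h.hom n)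
      let w := (m ≫ ι) ≫ ĝ
      let b := (yon S).map n ≫ x.1
      have hbw : (yon S).map (m ≫ ι) ≫ (yon S).map ĝ ≫ p = b := by
        have e₁ := hmap (m ≫ ι) _ rfl
        exact congrArg Sigma.fst ((e₁.symm.trans hmn').trans (pieces_map_mk x.2 n rfl))
      have hpc : Z.pull (m ≫ ι) hbw = x.2.res hp n :=
        piece_eq_of_sec_eq ((hmap _ _ hbw).symm.trans (hmn'.trans (pieces_map_mk x.2 n rfl)))
      let r : T'.unop ⟶ Rp hp x.1 := hp.rep.lift' w n (by simp only [w, b, ← hbw, Functor.map_comp, Category.assoc])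
      let sb := selfSec hp (b := b) w (by simp only [w, b, ← hbw, Functor.map_comp, Category.assoc])
      have hs₁ : sb ≫ trans hp ((yon S).map ĝ ≫ p) b (m ≫ ι) hbw = (m ≫ ι) ≫ σ := selfSec_trans hp ĝ rfl _ hbw
      have hs₂ : sb ≫ trans hp x.1 b n rfl = r := hp.rep.hom_ext' (by
          rw [Category.assoc, trans_fst]
          simp only [sb, r, selfSec, hp.rep.lift'_fst])
        (by
          rw [Category.assoc, trans_snd, ← Category.assoc]
          simp only [sb, r, selfSec, hp.rep.lift'_snd, Category.id_comp])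
      have hr : Set.range r.left ⊆ Set.range z.left := by
        rintro _ ⟨y, rfl⟩
        refine ⟨⟨r.left y, ?_⟩, rfl⟩
        rw [← hs₂, Over.comp_left, Scheme.Hom.comp_apply]
        change sb.left y ∈ (x.2.res hp n).1
        rw [← hpc]
        change (trans hp ((yon S).map ĝ ≫ p) b (m ≫ ι) hbw).left (sb.left y) ∈ Z.1
        rw [← Scheme.Hom.comp_apply, ← Over.comp_left, hs₁, Over.comp_left, Over.comp_left,
          Scheme.Hom.comp_apply, Scheme.Hom.comp_apply]
        exact hιr _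
      have : IsOpenImmersion z.left := inferInstanceAs (IsOpenImmersion x.2.1.ι)
      let r' : T'.unop ⟶ V := Over.homMk (IsOpenImmersion.lift z.left r.left hr) (by
        change IsOpenImmersion.lift z.left r.left hr ≫ z.left ≫ (Rp hp x.1).hom = _
        rw [IsOpenImmersion.lift_fac_assoc, Over.w])
      have hr' : r' ≫ z = r := Over.OverMorphism.ext (IsOpenImmersion.lift_fac _ _ _)
      have hr'T : r' ≫ zT = n := by
        rw [← Category.assoc, hr']
        exact hp.rep.lift'_snd _ _ _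
      have hr'G : r' ≫ l = m ≫ ι := by
        refine hGext _ _ ?_ ?_
        · rw [Category.assoc, hlĝ, ← Category.assoc, hr']
          exact hp.rep.lift'_fst _ _ _
        · rw [op_comp, Functor.map_comp_apply, hlu, hmn']
          change (pieces hp).map r'.op ((pieces hp).map zT.op x) = _
          rw [← Functor.map_comp_apply, ← op_comp, hr'T]
      refine ⟨⟨r'⟩, congrArg ULift.up ?_, congrArg ULift.up hr'T⟩
      have : Mono ι := ⟨fun a b e => Over.OverMorphism.ext ((cancel_mono ι.left).1 congr(($e).left))⟩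
      rw [← cancel_mono ι]
      change (r' ≫ lP) ≫ ι = m ≫ ι
      rw [Category.assoc, hlP', hr'G]
  · have := x.2.2.finite
    have := x.2.2.surjective
    refine ⟨⟨⟨?_, ?_⟩, ?_⟩, ?_⟩
    · exact ‹IsFinite (x.2.1.ι ≫ rsnd hp x.1)›
    · exact inferInstanceAs (Flat (x.2.1.ι ≫ rsnd hp x.1))
    · exact inferInstanceAs (LocallyOfFinitePresentation (x.2.1.ι ≫ rsnd hp x.1))
    · exact ‹Surjective (x.2.1.ι ≫ rsnd hp x.1)›

include hq in
/-- A piece exists near every point covered by the chart. -/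
theorem exists_piece_near {T : Over S} (a : (yon S).obj T ⟶ F) (r : ↥(Rp hp a).left) :
    ∃ (T' : Over S) (k : T' ⟶ T) (t' : ↥T'.left), k.left t' = rsnd hp a r ∧
      Nonempty (PieceOn hp ((yon S).map k ≫ a)) := by
  have : LocallyQuasiFinite (rsnd hp a) := hq.property a _ _ (hp.rep.isPullback a)
  obtain ⟨U, g, u, hg, hgu, -, hJ⟩ := exists_piece_split (rsnd hp a) (rsnd hp a r) {r}
    (Set.finite_singleton r) (by rintro _ rfl; rfl)
  obtain ⟨Z, hfin, hmem⟩ := hJ {w | pullback.snd (rsnd hp a) g w = u ∧ pullback.fst (rsnd hp a) g w = r}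
    fun w hw => hw
  obtain ⟨w, hw₁, hw₂⟩ := Scheme.Pullback.exists_preimage_pullback r u (f := rsnd hp a) (g := g) hgu.symm
  let O : U.Opens := ⟨pullback.snd (rsnd hp a) g '' Z, (pullback.snd _ g).isOpenMap _ Z.2⟩
  have hwZ : w ∈ Z := (hmem w hw₂).2 ⟨hw₂, hw₁⟩
  let T' : Over S := Over.mk ((O.ι ≫ g) ≫ T.hom)
  let k : T' ⟶ T := Over.homMk (O.ι ≫ g) rfl
  let U' : Over S := Over.mk (g ≫ T.hom)
  let kU : U' ⟶ T := Over.homMk g rfl
  have sqU : IsPullback (trans hp a _ kU rfl).left (rsnd hp ((yon S).map kU ≫ a)) (rsnd hp a) g :=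
    isPullback_trans hp a _ kU rfl
  let j : T' ⟶ U' := Over.homMk O.ι (Category.assoc _ _ _).symm
  have hjk : j ≫ kU = k := rfl
  have hjk' : (yon S).map j ≫ (yon S).map kU ≫ a = (yon S).map k ≫ a := by
    rw [← Category.assoc, ← Functor.map_comp, hjk]
  have sq' := (isPullback_trans hp _ _ j hjk').paste_horiz
    (isPullback_of_iso sqU.isoPullback sqU.isoPullback_hom_snd)
  rw [Category.comp_id] at sq'
  refine ⟨T', k, ⟨u, ⟨w, hwZ, hw₂⟩⟩, hgu, ⟨⟨_, MorphismProperty.of_isPullback (isPullback_piece sq' Z) hfin,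
    ⟨fun o => ?_⟩⟩⟩⟩
  obtain ⟨y, hy, hyo⟩ := o.2
  obtain ⟨y', hy₁, hy₂⟩ := Scheme.exists_preimage_of_isPullback sq' y o hyo
  exact ⟨⟨y', by change _ ∈ Z; rw [hy₁]; exact hy⟩, by rw [Scheme.Hom.comp_apply]; exact hy₂⟩

end Groth.FppfBoot
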