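import Groth.Agent.FppfBoot.Locus

/-!
# Restricting a chart to a scheme over it
-/

set_option autoImplicit false
set_option backward.isDefEq.respectTransparency false
set_option backward.isDefEq.respectTransparency.types false

universe u

open CategoryTheory CategoryTheory.Limits AlgebraicGeometry Opposite AlgSp

noncomputable section

namespace Groth.FppfBoot

open Groth.AlgSpBasic

variable {S : Scheme.{u}} {F : Sp S} {W : Over S} {U : Scheme.{u}}

theorem repWith_map (P : MorphismProperty Scheme.{u}) [P.IsStableUnderBaseChange] {A B : Over S} (a : A ⟶ B)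
    (h : P a.left) : RepWith P ((yon S).map a) :=
  repWith_of_exists fun T g => by
    obtain ⟨g₀, rfl⟩ := (yon S).map_surjective g
    exact ⟨pullback a g₀, (yon S).map (pullback.fst a g₀), pullback.snd a g₀,
      (IsPullback.of_hasPullback a g₀).map (yon S),
      MorphismProperty.of_isPullback ((IsPullback.of_hasPullback a g₀).map (Over.forget S)) h⟩

/-- A scheme mapping to a chart, over the base. -/
def src (j : U ⟶ W.left) : Over S :=
  Over.mk (j ≫ W.hom)

@[simp] theorem src_left (j : U ⟶ W.left) : (src j).left = U := rfl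

/-- The restriction of a chart along a morphism of schemes. -/
def restr (p : (yon S).obj W ⟶ F) (j : U ⟶ W.left) : (yon S).obj (src j) ⟶ F :=
  (yon S).map (Over.homMk j rfl : src j ⟶ W) ≫ p

theorem repWith_restr {P : MorphismProperty Scheme.{u}} [P.IsStableUnderBaseChange]
    [P.IsStableUnderComposition] {p : (yon S).obj W ⟶ F} (hp : RepWith P p) (j : U ⟶ W.left) (hj : P j) :
    RepWith P (restr p j) :=
  repWith_comp (repWith_map P _ hj) hp

/-- The fibre product with a restricted chart is the base change of the fibre product. -/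
theorem exists_map_restr {p : (yon S).obj W ⟶ F} (hp : Representable p) (j : U ⟶ W.left)
    (hp' : Representable (restr p j)) {T : Over S} (a : (yon S).obj T ⟶ F) :
    ∃ i : (hp'.pullback a).left ⟶ (hp.pullback a).left,
      IsPullback (hp'.fst' a).left i j (hp.fst' a).left ∧ i ≫ (hp.snd a).left = (hp'.snd a).left := by
  let ĵ : src j ⟶ W := Over.homMk j rfl
  have e : (yon S).map (hp'.fst' a ≫ ĵ) ≫ p = (yon S).map (hp'.snd a) ≫ a := by
    rw [Functor.map_comp, Category.assoc]
    exact (hp'.isPullback' a).w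
  let i := hp.lift' (hp'.fst' a ≫ ĵ) (hp'.snd a) e
  have h₁ : i ≫ hp.fst' a = hp'.fst' a ≫ ĵ := hp.lift'_fst _ _ _
  have h₂ : i ≫ hp.snd a = hp'.snd a := hp.lift'_snd _ _ _
  have sq : IsPullback ((yon S).map i) ((yon S).map (hp'.fst' a)) ((yon S).map (hp.fst' a))
      ((yon S).map ĵ) := by
    refine IsPullback.of_right ?_ (by rw [← Functor.map_comp, ← Functor.map_comp, h₁]) (hp.isPullback' a).flip
    rw [← Functor.map_comp, h₂]
    exact (hp'.isPullback' a).flip
  exact ⟨i.left, (isPullback_left (isPullback_of_yon sq)).flip, by rw [← Over.comp_left, h₂]⟩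

/-- A property at points which is invariant under restriction to an open. -/
def OpenInv (Q : ∀ {X Y : Scheme.{u}}, (X ⟶ Y) → X → Prop) : Prop :=
  ∀ {X' X Y : Scheme.{u}} (i : X' ⟶ X) [IsOpenImmersion i] (f : X ⟶ Y) (x : X'), Q (i ≫ f) x ↔ Q f (i x)

theorem openInv_flat : OpenInv fun f x => (f.stalkMap x).hom.Flat := fun i _ f x => by
  simp only [Scheme.Hom.stalkMap_comp, CommRingCat.hom_comp, RingHom.Flat.respectsIso.cancel_right_isIso]

theorem openInv_quasiFinite : OpenInv fun f x => f.QuasiFiniteAt x := fun i _ f x =>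
  Scheme.Hom.quasiFiniteAt_comp_iff_of_isOpenImmersion

/-- On the restriction to an open inside a locus, the property holds everywhere. -/
theorem repWith_restr_of_locus {p : (yon S).obj W ⟶ F} (hp : RepWith @LocallyOfFinitePresentation p)
    (Q : ∀ {X Y : Scheme.{u}}, (X ⟶ Y) → X → Prop) (hQ : OpenInv Q) (P : MorphismProperty Scheme.{u})
    [P.RespectsIso] (hP : ∀ {X Y : Scheme.{u}} (f : X ⟶ Y) [LocallyOfFinitePresentation f],
      (∀ x, Q f x) → P f)
    (Wloc : W.left.Opens)
    (hW : ∀ {T : Over S} (a : (yon S).obj T ⟶ F) (r : ↥(hp.rep.pullback a).left),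
      (hp.rep.fst' a).left r ∈ Wloc → Q (hp.rep.snd a).left r)
    (j : U ⟶ W.left) [IsOpenImmersion j] (hj : ∀ x, j x ∈ Wloc) : RepWith P (restr p j) := by
  have hp' : RepWith @LocallyOfFinitePresentation (restr p j) :=
    repWith_restr hp j (show LocallyOfFinitePresentation j from inferInstance)
  refine repWith_of_exists fun T a => ⟨hp'.rep.pullback a, hp'.rep.fst a, hp'.rep.snd a,
    hp'.rep.isPullback a, ?_⟩
  have : LocallyOfFinitePresentation (hp'.rep.snd a).left := hp'.property a _ _ (hp'.rep.isPullback a)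
  obtain ⟨i, sq, hi⟩ := exists_map_restr hp.rep j hp'.rep a
  have : IsOpenImmersion i := MorphismProperty.of_isPullback sq inferInstance
  refine hP _ fun r => ?_
  have hmem : (hp.rep.fst' a).left (i r) ∈ Wloc := by
    rw [← Scheme.Hom.comp_apply, ← sq.w, Scheme.Hom.comp_apply]
    exact hj _
  rw [← hi]
  exact (hQ i _ r).mpr (hW a _ hmem)

theorem flat_of_flatAt {X Y : Scheme.{u}} (f : X ⟶ Y) (h : ∀ x, (f.stalkMap x).hom.Flat) : Flat f :=
  Flat.of_stalkMap f h

theorem locallyQuasiFinite_of_quasiFiniteAt {X Y : Scheme.{u}} (f : X ⟶ Y) [LocallyOfFiniteType f]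
    (h : ∀ x, f.QuasiFiniteAt x) : LocallyQuasiFinite f := by
  refine locallyQuasiFinite_iff_isDiscrete_preimage_singleton.mpr fun y => ⟨?_⟩
  refine discreteTopology_iff_isOpen_singleton.mpr fun ⟨x, hx⟩ => ?_
  obtain rfl : f x = y := hx
  have := Scheme.Hom.quasiFiniteAt_iff_isOpen_singleton_asFiber.mp (h x)
  rw [← (f.fiberHomeo (f x)).isOpen_image, Set.image_singleton] at this
  simpa [Scheme.Hom.asFiber] using this

end Groth.FppfBoot
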