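import Groth.Agent.FppfBoot.Piece
import Groth.Agent.FppfBoot.Restrict
import Groth.Agent.AlgSpBoot.EtaleTop

/-!
# The presheaf of pieces of a chart
-/

set_option autoImplicit false
set_option backward.isDefEq.respectTransparency false
set_option backward.isDefEq.respectTransparency.types false

universe u

open CategoryTheory CategoryTheory.Limits AlgebraicGeometry Opposite AlgSp

noncomputable section

namespace Groth.FppfBoot

open Groth.AlgSpBasic Groth.AlgSpBoot

variable {S : Scheme.{u}} {F : Sp S} {W : Over S} {p : (yon S).obj W ⟶ F}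
  (hp : RepWith (@Flat ⊓ @LocallyOfFinitePresentation) p)

/-- The fibre product of the chart with a map from a scheme. -/
abbrev Rp {T : Over S} (a : (yon S).obj T ⟶ F) : Over S := hp.rep.pullback a

/-- Its projection to the scheme. -/
abbrev rsnd {T : Over S} (a : (yon S).obj T ⟶ F) : (Rp hp a).left ⟶ T.left := (hp.rep.snd a).left

instance flat_rsnd {T : Over S} (a : (yon S).obj T ⟶ F) : Flat (rsnd hp a) :=
  (hp.property a _ _ (hp.rep.isPullback a)).1

instance lfp_rsnd {T : Over S} (a : (yon S).obj T ⟶ F) : LocallyOfFinitePresentation (rsnd hp a) :=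
  (hp.property a _ _ (hp.rep.isPullback a)).2

instance (priority := 100) isSeparated_hom_of_isAffine {X : Over S} [IsAffine X.left] :
    IsSeparated X.hom := by
  have : IsSeparated (X.hom ≫ terminal.from S) := by
    rw [terminal.hom_ext (X.hom ≫ terminal.from S) (terminal.from X.left)]
    infer_instance
  exact IsSeparated.of_comp X.hom (terminal.from S)

instance isSeparated_rsnd [IsSeparated W.hom] {T : Over S} (a : (yon S).obj T ⟶ F) :
    IsSeparated (rsnd hp a) := by
  let m : (Rp hp a).left ⟶ pullback W.hom T.hom :=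
    pullback.lift (hp.rep.fst' a).left (hp.rep.snd a).left ((Over.w _).trans (Over.w _).symm)
  have : Mono m := ⟨fun {C} x y e => by
    let X : Over S := Over.mk (x ≫ (Rp hp a).hom)
    have e₁ := congrArg (· ≫ pullback.fst _ _) e
    have e₂ := congrArg (· ≫ pullback.snd _ _) e
    simp only [m, Category.assoc, pullback.lift_fst, pullback.lift_snd] at e₁ e₂
    have hw : y ≫ (Rp hp a).hom = x ≫ (Rp hp a).hom := by
      rw [← Over.w (hp.rep.fst' a), ← Category.assoc, ← Category.assoc]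
      exact congrArg (· ≫ W.hom) e₁.symm
    let xo : X ⟶ Rp hp a := Over.homMk x rfl
    let yo : X ⟶ Rp hp a := Over.homMk y hw
    have h : xo = yo := hp.rep.hom_ext' (Over.OverMorphism.ext e₁) (Over.OverMorphism.ext e₂)
    exact congrArg (·.left) h⟩
  have : IsSeparated (m ≫ pullback.snd W.hom T.hom) := inferInstance
  have e : m ≫ pullback.snd W.hom T.hom = rsnd hp a := pullback.lift_snd _ _ _
  rwa [e] at this

/-- The transition map along a morphism of schemes. -/
def trans {T T' : Over S} (a : (yon S).obj T ⟶ F) (a' : (yon S).obj T' ⟶ F) (k : T' ⟶ T)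
    (h : (yon S).map k ≫ a = a') : Rp hp a' ⟶ Rp hp a :=
  hp.rep.lift' (hp.rep.fst' a') (hp.rep.snd a' ≫ k) (by
    rw [(hp.rep.isPullback' a').w, Functor.map_comp, Category.assoc, h])

@[simp] theorem trans_snd {T T' : Over S} (a : (yon S).obj T ⟶ F) (a' : (yon S).obj T' ⟶ F) (k : T' ⟶ T)
    (h : (yon S).map k ≫ a = a') : trans hp a a' k h ≫ hp.rep.snd a = hp.rep.snd a' ≫ k :=
  hp.rep.lift'_snd _ _ _

@[simp] theorem trans_fst {T T' : Over S} (a : (yon S).obj T ⟶ F) (a' : (yon S).obj T' ⟶ F) (k : T' ⟶ T)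
    (h : (yon S).map k ≫ a = a') : trans hp a a' k h ≫ hp.rep.fst' a = hp.rep.fst' a' :=
  hp.rep.lift'_fst _ _ _

theorem trans_comp {T T' T'' : Over S} (a : (yon S).obj T ⟶ F) (a' : (yon S).obj T' ⟶ F)
    (a'' : (yon S).obj T'' ⟶ F) (k : T' ⟶ T) (l : T'' ⟶ T') (h : (yon S).map k ≫ a = a')
    (h' : (yon S).map l ≫ a' = a'') (h'' : (yon S).map (l ≫ k) ≫ a = a'') :
    trans hp a' a'' l h' ≫ trans hp a a' k h = trans hp a a'' (l ≫ k) h'' :=
  hp.rep.hom_ext' (by simp) (by simp [reassoc_of% trans_snd])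

theorem trans_trans {T T' T'' : Over S} (a : (yon S).obj T ⟶ F) (a' : (yon S).obj T' ⟶ F)
    (a'' : (yon S).obj T'' ⟶ F) (k : T' ⟶ T) (l : T'' ⟶ T') (m : T'' ⟶ T) (hm : l ≫ k = m)
    (h : (yon S).map k ≫ a = a') (h' : (yon S).map l ≫ a' = a'') (h'' : (yon S).map m ≫ a = a'') :
    trans hp a' a'' l h' ≫ trans hp a a' k h = trans hp a a'' m h'' := by
  subst hm
  exact trans_comp hp a a' a'' k l h h' h''

theorem preimage_trans_trans {T T' T'' : Over S} {a : (yon S).obj T ⟶ F} {a' : (yon S).obj T' ⟶ F}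
    {a'' : (yon S).obj T'' ⟶ F} {k : T' ⟶ T} {l : T'' ⟶ T'} {m : T'' ⟶ T} (hm : l ≫ k = m)
    (h : (yon S).map k ≫ a = a') (h' : (yon S).map l ≫ a' = a'') (h'' : (yon S).map m ≫ a = a'')
    (Z : (Rp hp a).left.Opens) :
    (trans hp a' a'' l h').left ⁻¹ᵁ (trans hp a a' k h).left ⁻¹ᵁ Z = (trans hp a a'' m h'').left ⁻¹ᵁ Z := by
  rw [← Scheme.Hom.comp_preimage, ← Over.comp_left, trans_trans hp a a' a'' k l m hm h h' h'']

theorem trans_id {T : Over S} (a : (yon S).obj T ⟶ F) (h : (yon S).map (𝟙 T) ≫ a = a) :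
    trans hp a a (𝟙 T) h = 𝟙 _ :=
  hp.rep.hom_ext' (by simp) (by simp)

theorem isPullback_trans_over {T T' : Over S} (a : (yon S).obj T ⟶ F) (a' : (yon S).obj T' ⟶ F)
    (k : T' ⟶ T) (h : (yon S).map k ≫ a = a') :
    IsPullback (trans hp a a' k h) (hp.rep.snd a') (hp.rep.snd a) k := by
  refine isPullback_of_yon (IsPullback.of_right ?_ (by rw [← Functor.map_comp, ← Functor.map_comp, trans_snd])
    (hp.rep.isPullback' a))
  rw [← Functor.map_comp, trans_fst, h]
  exact hp.rep.isPullback' a'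

theorem isPullback_trans {T T' : Over S} (a : (yon S).obj T ⟶ F) (a' : (yon S).obj T' ⟶ F)
    (k : T' ⟶ T) (h : (yon S).map k ≫ a = a') :
    IsPullback (trans hp a a' k h).left (rsnd hp a') (rsnd hp a) k.left :=
  (isPullback_trans_over hp a a' k h).map (Over.forget S)

/-- Pieces of the chart over a map from a scheme. -/
abbrev PieceOn {T : Over S} (a : (yon S).obj T ⟶ F) : Type u :=
  {Z : (Rp hp a).left.Opens // IsPiece (rsnd hp a) Z}

/-- Restriction of pieces. -/
def PieceOn.res {T T' : Over S} {a : (yon S).obj T ⟶ F} (Z : PieceOn hp a) (k : T' ⟶ T) :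
    PieceOn hp ((yon S).map k ≫ a) :=
  ⟨(trans hp a _ k rfl).left ⁻¹ᵁ Z.1, Z.2.preimage (isPullback_trans hp a _ k rfl)⟩

theorem sec_ext {T : Over S} (x y : Σ a : (yon S).obj T ⟶ F, PieceOn hp a)
    (h : (yon S).map (𝟙 T) ≫ y.1 = x.1) (h' : x.2.1 = (trans hp y.1 x.1 (𝟙 T) h).left ⁻¹ᵁ y.2.1) :
    x = y := by
  obtain ⟨a, Z, hZ⟩ := x
  obtain ⟨b, Z', hZ'⟩ := y
  obtain rfl : b = a := by simpa using h
  simp only [trans_id hp b h] at h'
  exact Sigma.ext rfl (heq_of_eq (Subtype.ext h'))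

/-- The presheaf of pairs of a map to `F` and a piece of the chart over it. -/
def pieces : PSp S where
  obj T := Σ a : (yon S).obj T.unop ⟶ F, PieceOn hp a
  map k := ↾fun x => ⟨(yon S).map k.unop ≫ x.1, x.2.res hp k.unop⟩
  map_id T := by
    apply ConcreteCategory.hom_ext
    intro x
    refine sec_ext hp _ _ ?_ ?_
    · rfl
    · rfl
  map_comp {T T' T''} k l := by
    apply ConcreteCategory.hom_ext
    intro x
    refine sec_ext hp _ _ ?_ ?_
    · simp
    · simp only [TypeCat.ofHom_apply, CategoryTheory.types_comp_apply, PieceOn.res]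
      rw [preimage_trans_trans hp (m := l.unop ≫ k.unop) (h'' := by simp),
        preimage_trans_trans hp (m := l.unop ≫ k.unop) (h'' := by simp)]
      all_goals first | rfl | exact Category.id_comp _

theorem pieces_map {T T' : Over S} (k : T' ⟶ T) (x : (pieces hp).obj (op T)) :
    (pieces hp).map k.op x = ⟨(yon S).map k ≫ x.1, x.2.res hp k⟩ := rfl

/-- The structure map of the presheaf of pieces. -/
def piecesMap : pieces hp ⟶ F.obj where
  app T := ↾fun x => pEquiv x.1.hom
  naturality T T' k := by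
    ext x
    apply pEquiv.symm.injective
    change pEquiv.symm (pEquiv ((yon S).map k.unop ≫ x.1).hom) = pEquiv.symm (F.obj.map k (pEquiv x.1.hom))
    rw [Equiv.symm_apply_apply]
    refine Eq.trans ?_ (pEquiv_symm_map k.unop _).symm
    rw [Equiv.symm_apply_apply]
    rfl

theorem piecesMap_app {T : Over S} (x : (pieces hp).obj (op T)) :
    pEquiv.symm ((piecesMap hp).app (op T) x) = x.1.hom :=
  Equiv.symm_apply_apply _ _

/-- A covering sieve for the etale topology has etale members through every point. -/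
theorem exists_etale_of_mem {X : Over S} {R : Sieve X} (hR : R ∈ Jet S X) (t : X.left) :
    ∃ (V : Over S) (g : V ⟶ X), Etale g.left ∧ t ∈ Set.range g.left ∧ R g := by
  rw [GrothendieckTopology.mem_over_iff, Scheme.etalePrecoverage,
    Precoverage.mem_toGrothendieck_iff_of_isStableUnderComposition] at hR
  obtain ⟨C, hC, hle⟩ := hR
  obtain ⟨ι, Y, f, rfl⟩ := C.exists_eq_ofArrows
  rw [Scheme.ofArrows_mem_precoverage_iff] at hC
  obtain ⟨i, hi⟩ := hC.1 t
  exact ⟨Over.mk (f i ≫ X.hom), Over.homMk (f i) rfl, hC.2 i, hi,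
    (Sieve.overEquiv_iff _ _).1 (hle _ _ ⟨i⟩)⟩

variable [IsSeparated W.hom]

/-- The presheaf of pieces is an etale sheaf. -/
theorem isSheaf_pieces : Presheaf.IsSheaf (Jet S) (pieces hp) := by
  have hF := (isSheaf_iff_isSheaf_of_type _ _).1 (isSheaf_Jet F.property)
  rw [isSheaf_iff_isSheaf_of_type]
  intro T R hR x hx
  obtain ⟨y, hy, -⟩ := hF R hR (fun V i hi => (piecesMap hp).app _ (x i hi)) (hx.map (piecesMap hp))
  let a : (yon S).obj T ⟶ F := ObjectProperty.homMk (pEquiv.symm y)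
  have ha : ∀ {V : Over S} (i : V ⟶ T) (hi : R i), (yon S).map i ≫ a = (x i hi).1 := fun i hi => by
    apply ObjectProperty.hom_ext
    refine Eq.trans ?_ (piecesMap_app hp (x i hi))
    refine Eq.trans (pEquiv_symm_map i y).symm ?_
    exact congrArg pEquiv.symm (hy i hi)
  let τ := fun {V : Over S} (i : V ⟶ T) (hi : R i) => (trans hp a (x i hi).1 i (ha i hi)).left
  have sqτ : ∀ {V : Over S} (i : V ⟶ T) (hi : R i),
      IsPullback (τ i hi) (rsnd hp (x i hi).1) (rsnd hp a) i.left :=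
    fun i hi => isPullback_trans hp a _ i (ha i hi)
  have hkey : ∀ {V V' : Over S} (i : V ⟶ T) (hi : R i) (j : V' ⟶ T) (hj : R j) (z : ↥(Rp hp (x i hi).1).left)
      (z' : ↥(Rp hp (x j hj).1).left), τ i hi z = τ j hj z' → (z ∈ (x i hi).2.1 ↔ z' ∈ (x j hj).2.1) := by
    intro V V' i hi j hj z z' hzz
    have e : (yon S).map (pullback.fst i j) ≫ (x i hi).1 = (yon S).map (pullback.snd i j) ≫ (x j hj).1 :=
      congrArg Sigma.fst (hx (pullback.fst i j) (pullback.snd i j) hi hj pullback.condition)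
    let b := (yon S).map (pullback.fst i j) ≫ (x i hi).1
    let t₁ := trans hp (x i hi).1 b (pullback.fst i j) rfl
    let t₂ := trans hp (x j hj).1 b (pullback.snd i j) e.symm
    have hw : t₁ ≫ trans hp a _ i (ha i hi) = t₂ ≫ trans hp a _ j (ha j hj) :=
      hp.rep.hom_ext' (by simp [t₁, t₂]) (by simp [t₁, t₂, reassoc_of% trans_snd, pullback.condition])
    have sqt : IsPullback t₁.left t₂.left (τ i hi) (τ j hj) := by
      have h1 : IsPullback t₁ (hp.rep.snd b) (hp.rep.snd (x i hi).1) (pullback.fst i j) :=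
        isPullback_trans_over hp _ _ _ rfl
      have h2 := h1.paste_vert (IsPullback.of_hasPullback i j)
      rw [← trans_snd hp (x j hj).1 b (pullback.snd i j) e.symm] at h2
      have h3 := IsPullback.of_bot (h₁₁ := t₁) (v₁₁ := t₂) (v₂₁ := hp.rep.snd (x j hj).1) (v₁₂ := trans hp a _ i (ha i hi))
        (h₂₁ := trans hp a _ j (ha j hj)) (v₂₂ := hp.rep.snd a) (h₃₁ := j)
        (by rw [trans_snd hp a _ i (ha i hi)]; exact h2) hw (isPullback_trans_over hp a _ j (ha j hj))
      exact h3.map (Over.forget S)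
    obtain ⟨w, hw₁, hw₂⟩ := Scheme.exists_preimage_of_isPullback sqt z z' hzz
    have e2 : t₁.left ⁻¹ᵁ (x i hi).2.1 = t₂.left ⁻¹ᵁ (x j hj).2.1 := by
      have hc := hx (pullback.fst i j) (pullback.snd i j) hi hj pullback.condition
      simp only [pieces_map] at hc
      have aux : ∀ (b₁ b₂ : (yon S).obj (pullback i j) ⟶ F) (Z₁ : PieceOn hp b₁) (Z₂ : PieceOn hp b₂)
          (h : (yon S).map (𝟙 _) ≫ b₂ = b₁),
          (⟨b₁, Z₁⟩ : Σ a : (yon S).obj (pullback i j) ⟶ F, PieceOn hp a) = ⟨b₂, Z₂⟩ →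
          Z₁.1 = (trans hp b₂ b₁ (𝟙 _) h).left ⁻¹ᵁ Z₂.1 := by
        intro b₁ b₂ Z₁ Z₂ h hh
        obtain ⟨rfl, hh⟩ := Sigma.mk.inj_iff.mp hh
        cases hh
        rw [trans_id]
        rfl
      refine (aux _ _ _ _ (by simpa using e.symm) hc).trans ?_
      exact preimage_trans_trans hp (Category.id_comp _) _ _ _ _
    rw [← hw₁, ← hw₂]
    exact SetLike.ext_iff.1 e2 w
  choose V g hge hgt hgR using exists_etale_of_mem hR
  let Z : (Rp hp a).left.Opens := ⟨⋃ t : T.left, τ (g t) (hgR t) '' (x (g t) (hgR t)).2.1,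
    isOpen_iUnion fun t => by
      have := hge t
      have : Etale (τ (g t) (hgR t)) := MorphismProperty.of_isPullback (sqτ (g t) (hgR t)).flip (hge t)
      exact (τ (g t) (hgR t)).isOpenMap _ (x (g t) (hgR t)).2.1.2⟩
  have hZ : ∀ {V : Over S} (i : V ⟶ T) (hi : R i), τ i hi ⁻¹ᵁ Z = (x i hi).2.1 := by
    intro V' i hi
    refine TopologicalSpace.Opens.ext (Set.ext fun z => ?_)
    constructor
    · rintro ⟨_, ⟨t, rfl⟩, z', hz', hzz⟩
      exact (hkey (g t) (hgR t) i hi z' z hzz).1 hz'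
    · intro hz
      let t := i.left (rsnd hp (x i hi).1 z)
      obtain ⟨v, hv⟩ := hgt t
      have ht : rsnd hp a (τ i hi z) = (g t).left v := by
        rw [hv, ← Scheme.Hom.comp_apply, (sqτ i hi).w, Scheme.Hom.comp_apply]
      obtain ⟨z', hz', -⟩ := Scheme.exists_preimage_of_isPullback (sqτ (g t) (hgR t)) _ v ht
      exact Set.mem_iUnion.2 ⟨t, z', (hkey i hi (g t) (hgR t) z z' hz'.symm).1 hz, hz'⟩
  have hpiece : IsPiece (rsnd hp a) Z := isPiece_of_etale_locally Z fun t =>
    ⟨_, _, (g t).left, τ (g t) (hgR t), _, (have := hge t; inferInstance), (have := hge t; inferInstance),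
      hgt t, sqτ (g t) (hgR t), (hZ (g t) (hgR t)).symm ▸ (x (g t) (hgR t)).2.2⟩
  refine ⟨⟨a, Z, hpiece⟩, fun V i hi => ?_, ?_⟩
  · rw [pieces_map]
    refine sec_ext hp _ _ (by simpa using (ha i hi).symm) ?_
    rw [← hZ i hi]
    exact (preimage_trans_trans hp (Category.id_comp i) (ha i hi) _ rfl Z).symm
  · rintro ⟨a', Z', hZ'⟩ h'
    have hy' : a' = a := by
      apply ObjectProperty.hom_ext
      apply pEquiv.injective
      change pEquiv a'.hom = pEquiv (pEquiv.symm y)
      rw [Equiv.apply_symm_apply]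
      refine (hF R hR).isSeparatedFor.ext fun V i hi => ?_
      refine Eq.trans ?_ (hy i hi).symm
      change _ = (piecesMap hp).app _ (x i hi)
      rw [← h' i hi]
      exact ((piecesMap hp).naturality_apply i.op (⟨a', Z', hZ'⟩ : (pieces hp).obj (op T))).symm
    subst hy'
    refine sec_ext hp _ _ (by simp) ?_
    rw [trans_id]
    refine TopologicalSpace.Opens.ext (Set.ext fun z => ?_)
    let t := rsnd hp a z
    obtain ⟨v, hv⟩ := hgt t
    obtain ⟨z', hz', -⟩ := Scheme.exists_preimage_of_isPullback (sqτ (g t) (hgR t)) z v hv.symm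
    rw [← hz']
    have e1 : τ (g t) (hgR t) ⁻¹ᵁ Z' = (x (g t) (hgR t)).2.1 := by
      have hc := h' (g t) (hgR t)
      rw [pieces_map] at hc
      have aux : ∀ (b₁ b₂ : (yon S).obj (V t) ⟶ F) (Z₁ : PieceOn hp b₁) (Z₂ : PieceOn hp b₂)
          (h : (yon S).map (𝟙 _) ≫ b₁ = b₂),
          (⟨b₁, Z₁⟩ : Σ a : (yon S).obj (V t) ⟶ F, PieceOn hp a) = ⟨b₂, Z₂⟩ →
          (trans hp b₁ b₂ (𝟙 _) h).left ⁻¹ᵁ Z₁.1 = Z₂.1 := by
        intro b₁ b₂ Z₁ Z₂ h hh
        obtain ⟨rfl, hh⟩ := Sigma.mk.inj_iff.mp hh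
        cases hh
        rw [trans_id]
        rfl
      refine Eq.trans ?_ (aux _ _ _ _ (by simpa using ha (g t) (hgR t)) hc)
      exact (preimage_trans_trans hp (Category.id_comp (g t)) _ _ _ _).symm
    exact (SetLike.ext_iff.1 e1 z').trans (SetLike.ext_iff.1 (hZ (g t) (hgR t)) z').symm

end Groth.FppfBoot
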