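import Groth.Agent.FppfBoot.PieceChart
import Groth.Agent.AlgSpBoot.EtaleChart
import Groth.Agent.AlgSpBasic.SepLQFScheme

/-!
# Pieces over a scheme are parametrised by an etale scheme
-/

set_option autoImplicit false
set_option backward.isDefEq.respectTransparency false
set_option backward.isDefEq.respectTransparency.types false

universe u

open CategoryTheory CategoryTheory.Limits AlgebraicGeometry Opposite AlgSp

noncomputable section

namespace Groth.FppfBoot

open Groth.AlgSpBasic Groth.AlgSpBoot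

variable {S : Scheme.{u}} {F : Sp S} {W : Over S} {p : (yon S).obj W ⟶ F}
  {hp : RepWith (@Flat ⊓ @LocallyOfFinitePresentation) p}

theorem sec_eq {T : Over S} {b b' : (yon S).obj T ⟶ F} (Z : PieceOn hp b) (Z' : PieceOn hp b')
    (h : (yon S).map (𝟙 T) ≫ b' = b) (hZ : Z = Z'.pull (𝟙 T) h) :
    ((⟨b, Z⟩ : Σ b : (yon S).obj T ⟶ F, PieceOn hp b)) = ⟨b', Z'⟩ :=
  sec_ext hp _ _ h (congrArg Subtype.val hZ)

theorem piece_eq_of_sec_eq {T : Over S} {b : (yon S).obj T ⟶ F} {Z Z' : PieceOn hp b}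
    (h : (⟨b, Z⟩ : Σ b : (yon S).obj T ⟶ F, PieceOn hp b) = ⟨b, Z'⟩) : Z = Z' := by
  cases h
  rfl

theorem PieceOn.pull_id {T : Over S} {b : (yon S).obj T ⟶ F} (Z : PieceOn hp b)
    (h : (yon S).map (𝟙 T) ≫ b = b) : Z.pull (𝟙 T) h = Z :=
  Subtype.ext (by simp [PieceOn.pull, trans_id])

theorem pieces_map_mk {T T' : Over S} {b : (yon S).obj T ⟶ F} {b' : (yon S).obj T' ⟶ F}
    (Z : PieceOn hp b) (k : T' ⟶ T) (h : (yon S).map k ≫ b = b') :
    (pieces hp).map k.op (⟨b, Z⟩ : Σ b : (yon S).obj T ⟶ F, PieceOn hp b) =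
      (⟨b', Z.pull k h⟩ : Σ b : (yon S).obj T' ⟶ F, PieceOn hp b) := by
  subst h
  rfl

theorem piecesMap_eq_iff {T T' : Over S} (a : (yon S).obj T ⟶ F) (k : T' ⟶ T)
    (x : (pieces hp).obj (op T')) :
    (piecesMap hp).app (op T') x = a.hom.app (op T') ⟨k⟩ ↔ x.1 = (yon S).map k ≫ a := by
  have e : a.hom.app (op T') ⟨k⟩ = pEquiv ((yon S).map k ≫ a).hom := by
    simp [pEquiv, uliftYonedaEquiv]
    rfl
  rw [e]
  constructor
  · intro h
    apply ObjectProperty.hom_ext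
    exact pEquiv.injective h
  · intro h
    exact congrArg (fun m => pEquiv m.hom) h

theorem app_eq_map {T T' : Over S} {G : PSp S} (φ : (pyon S).obj T ⟶ G) (l : T' ⟶ T) :
    φ.app (op T') ⟨l⟩ = G.map l.op (pEquiv φ) := by
  rw [show (⟨l⟩ : ((pyon S).obj T).obj (op T')) = ((pyon S).obj T).map l.op ⟨𝟙 T⟩ from
    congrArg ULift.up (Category.comp_id l).symm, NatTrans.naturality_apply]
  rfl

section Over

variable [IsSeparated W.hom] {T : Over S} (a : (yon S).obj T ⟶ F) {Q : PSp S}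
  {q₁ : Q ⟶ pieces hp} {q₂ : Q ⟶ (pyon S).obj T} (sq : IsPullback q₁ q₂ (piecesMap hp) a.hom)

include sq

theorem isPullback_app (T' : Over S) :
    IsPullback (q₁.app (op T')) (q₂.app (op T')) ((piecesMap hp).app (op T')) (a.hom.app (op T')) :=
  sq.map ((evaluation _ _).obj (op T'))

theorem elt_ext {T' : Over S} (x y : Q.obj (op T')) (h₁ : q₁.app _ x = q₁.app _ y)
    (h₂ : q₂.app _ x = q₂.app _ y) : x = y :=
  (Types.isPullback_iff _ _ _ _).1 (isPullback_app a sq T') |>.2.1 x y ⟨h₁, h₂⟩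

/-- The element of the fibre product given by a piece. -/
def mkElt {T' : Over S} (k : T' ⟶ T) (Z : PieceOn hp ((yon S).map k ≫ a)) : Q.obj (op T') :=
  ((Types.isPullback_iff _ _ _ _).1 (isPullback_app a sq T') |>.2.2 ⟨_, Z⟩ ⟨k⟩
    ((piecesMap_eq_iff a k _).2 rfl)).choose

theorem mkElt_fst {T' : Over S} (k : T' ⟶ T) (Z : PieceOn hp ((yon S).map k ≫ a)) :
    q₁.app _ (mkElt a sq k Z) = ⟨_, Z⟩ :=
  ((Types.isPullback_iff _ _ _ _).1 (isPullback_app a sq T') |>.2.2 ⟨_, Z⟩ ⟨k⟩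
    ((piecesMap_eq_iff a k _).2 rfl)).choose_spec.1

theorem mkElt_snd {T' : Over S} (k : T' ⟶ T) (Z : PieceOn hp ((yon S).map k ≫ a)) :
    q₂.app _ (mkElt a sq k Z) = ⟨k⟩ :=
  ((Types.isPullback_iff _ _ _ _).1 (isPullback_app a sq T') |>.2.2 ⟨_, Z⟩ ⟨k⟩
    ((piecesMap_eq_iff a k _).2 rfl)).choose_spec.2

theorem exists_mkElt {T' : Over S} (x : Q.obj (op T')) :
    ∃ (k : T' ⟶ T) (Z : PieceOn hp ((yon S).map k ≫ a)), x = mkElt a sq k Z := by
  have hw : (piecesMap hp).app _ (q₁.app _ x) = a.hom.app _ (q₂.app _ x) :=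
    congr($((isPullback_app a sq T').w) x)
  obtain ⟨k, hk⟩ : ∃ k : T' ⟶ T, q₂.app _ x = ⟨k⟩ := ⟨_, rfl⟩
  rw [hk] at hw
  have hb := (piecesMap_eq_iff a k _).1 hw
  let Z := PieceOn.pull (q₁.app (op T') x).2 (𝟙 T') (show (yon S).map (𝟙 T') ≫ _ = (yon S).map k ≫ a by
    simpa using hb)
  refine ⟨k, Z, elt_ext a sq _ _ ?_ (hk.trans (mkElt_snd a sq k Z).symm)⟩
  rw [mkElt_fst]
  exact (sec_eq Z _ _ rfl).symm

theorem mkElt_injective {T' : Over S} {k k' : T' ⟶ T} {Z : PieceOn hp ((yon S).map k ≫ a)}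
    {Z' : PieceOn hp ((yon S).map k' ≫ a)} (h : mkElt a sq k Z = mkElt a sq k' Z') :
    ∃ e : k = k', Z = e ▸ Z' := by
  obtain rfl : k = k' := congrArg ULift.down ((mkElt_snd a sq k Z).symm.trans
    ((congrArg (q₂.app _) h).trans (mkElt_snd a sq k' Z')))
  exact ⟨rfl, piece_eq_of_sec_eq ((mkElt_fst a sq k Z).symm.trans
    ((congrArg (q₁.app _) h).trans (mkElt_fst a sq k Z')))⟩

theorem map_mkElt {T' T'' : Over S} (k : T' ⟶ T) (Z : PieceOn hp ((yon S).map k ≫ a)) (l : T'' ⟶ T')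
    (m : T'' ⟶ T) (hm : l ≫ k = m) :
    Q.map l.op (mkElt a sq k Z) =
      mkElt a sq m (Z.pull l (by rw [← hm, Functor.map_comp, Category.assoc])) := by
  refine elt_ext a sq _ _ ?_ ?_
  · rw [NatTrans.naturality_apply, mkElt_fst, mkElt_fst]
    exact pieces_map_mk Z l _
  · rw [NatTrans.naturality_apply, mkElt_snd, mkElt_snd, ← hm]
    rfl

/-- Two maps to the fibre product with the same composite to the base agree on the locus where the
pieces agree. -/
theorem map_mkElt_eq_iff {T' T'' : Over S} {k : T' ⟶ T} (Z Z' : PieceOn hp ((yon S).map k ≫ a))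
    (l : T'' ⟶ T') :
    Q.map l.op (mkElt a sq k Z) = Q.map l.op (mkElt a sq k Z') ↔
      Set.range l.left ⊆ agree Z.2 Z'.2 := by
  rw [map_mkElt a sq k Z l _ rfl, map_mkElt a sq k Z' l _ rfl]
  refine Iff.trans ⟨fun h => ?_, fun h => congrArg _ (Subtype.ext h)⟩
    (preimage_eq_iff (isPullback_trans hp _ ((yon S).map (l ≫ k) ≫ a) l (by simp)) Z.2 Z'.2)
  exact congrArg Subtype.val (mkElt_injective a sq h).2

theorem isSheaf_fibre : Presheaf.IsSheaf (Jet S) Q := by
  let H' : Sheaf (Jet S) (Type (u + 1)) := ⟨pieces hp, isSheaf_pieces hp⟩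
  let T' : Sheaf (Jet S) (Type (u + 1)) := ⟨(pyon S).obj T, isSheaf_Jet ((yon S).obj T).property⟩
  let F' : Sheaf (Jet S) (Type (u + 1)) := ⟨F.obj, isSheaf_Jet F.property⟩
  let f' : H' ⟶ F' := ObjectProperty.homMk (piecesMap hp)
  let ξ' : T' ⟶ F' := ObjectProperty.homMk a.hom
  have sq' := IsPullback.map (sheafToPresheaf (Jet S) (Type (u + 1))) (IsPullback.of_hasPullback f' ξ')
  exact (Presheaf.isSheaf_of_iso_iff (sq.isoIsPullback _ _ sq')).2 (pullback f' ξ').property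

end Over

variable (hp)

/-- Pieces over a scheme are parametrised by an etale scheme. -/
theorem exists_pieces_scheme [IsSeparated W.hom] (hq : RepWith @LocallyQuasiFinite p) {T : Over S}
    (a : (yon S).obj T ⟶ F) :
    ∃ (G : Over S) (fst : (pyon S).obj G ⟶ pieces hp) (ĝ : G ⟶ T),
      Etale ĝ.left ∧ IsSeparated ĝ.left ∧ IsPullback fst ((pyon S).map ĝ) (piecesMap hp) a.hom := by
  obtain ⟨Q, q₁, q₂, sq⟩ : ∃ (Q : PSp S) (q₁ : Q ⟶ pieces hp) (q₂ : Q ⟶ (pyon S).obj T),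
      IsPullback q₁ q₂ (piecesMap hp) a.hom := ⟨_, _, _, IsPullback.of_hasPullback _ _⟩
  obtain ⟨C, c, Z₀, hc, hchart⟩ := exists_etale_chart_piece (hp := hp) hq a
  -- the chart
  let π : (pyon S).obj C ⟶ Q := pEquiv.symm (mkElt a sq c Z₀)
  have hπ : ∀ {T' : Over S} (l : T' ⟶ C), π.app (op T') ⟨l⟩ = Q.map l.op (mkElt a sq c Z₀) := fun l => rfl
  have hπc : π ≫ q₂ = (pyon S).map c := by
    apply pEquiv.injective
    simp only [pEquiv, uliftYonedaEquiv_comp]
    exact (congrArg (q₂.app _) (pEquiv.apply_symm_apply _)).trans ((mkElt_snd a sq c Z₀).trans (by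
      simp [uliftYonedaEquiv]))
  -- the relation
  let CC := pullback c c
  have hb₁ : (yon S).map (pullback.fst c c) ≫ (yon S).map c ≫ a = (yon S).map (pullback.fst c c ≫ c) ≫ a := by
    rw [Functor.map_comp, Category.assoc]
  have hb₂ : (yon S).map (pullback.snd c c) ≫ (yon S).map c ≫ a = (yon S).map (pullback.fst c c ≫ c) ≫ a := by
    rw [pullback.condition, Functor.map_comp, Category.assoc]
  let Z₁ := Z₀.pull (pullback.fst c c) hb₁
  let Z₂ := Z₀.pull (pullback.snd c c) hb₂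
  let R : Over S := Over.mk ((agree Z₁.2 Z₂.2).ι ≫ CC.hom)
  let ι : R ⟶ CC := Over.homMk (agree Z₁.2 Z₂.2).ι rfl
  let t := ι ≫ pullback.fst c c
  let s := ι ≫ pullback.snd c c
  have hι : IsOpenImmersion ι.left := inferInstanceAs (IsOpenImmersion (agree Z₁.2 Z₂.2).ι)
  have hsqc := (IsPullback.of_hasPullback c c).map (Over.forget S)
  have : Etale (pullback.fst c c).left := MorphismProperty.of_isPullback hsqc.flip hc
  have : Etale (pullback.snd c c).left := MorphismProperty.of_isPullback hsqc hc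
  have : Etale t.left := by rw [Over.comp_left]; infer_instance
  have : Etale s.left := by rw [Over.comp_left]; infer_instance
  have hQ₁ : Q.map (pullback.fst c c).op (mkElt a sq c Z₀) = mkElt a sq (pullback.fst c c ≫ c) Z₁ :=
    map_mkElt a sq c Z₀ _ _ rfl
  have hQ₂ : Q.map (pullback.snd c c).op (mkElt a sq c Z₀) = mkElt a sq (pullback.fst c c ≫ c) Z₂ :=
    map_mkElt a sq c Z₀ _ _ pullback.condition.symm
  have hrel : ∀ {T' : Over S} (m : T' ⟶ CC),
      Q.map (m ≫ pullback.fst c c).op (mkElt a sq c Z₀) = Q.map (m ≫ pullback.snd c c).op (mkElt a sq c Z₀) ↔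
        Set.range m.left ⊆ agree Z₁.2 Z₂.2 := fun m => by
    rw [op_comp, op_comp, Functor.map_comp_apply, Functor.map_comp_apply, hQ₁, hQ₂]
    exact map_mkElt_eq_iff a sq Z₁ Z₂ m
  have hιr : Set.range ι.left ⊆ agree Z₁.2 Z₂.2 := by
    rintro _ ⟨x, rfl⟩
    exact x.2
  have sqR : IsPullback ((pyon S).map t) ((pyon S).map s) π π := by
    refine IsPullback.of_forall_isPullback_app fun T' => (Types.isPullback_iff _ _ _ _).2 ⟨?_, ?_, ?_⟩
    · ext ⟨l⟩
      change π.app _ ⟨l ≫ t⟩ = π.app _ ⟨l ≫ s⟩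
      rw [hπ, hπ]
      simp only [t, s, ← Category.assoc]
      refine (hrel (l ≫ ι)).2 ?_
      rintro _ ⟨x, rfl⟩
      exact hιr ⟨l.left x, rfl⟩
    · rintro ⟨l⟩ ⟨l'⟩ ⟨h₁, h₂⟩
      have e₁ : l ≫ t = l' ≫ t := congrArg ULift.down h₁
      have e₂ : l ≫ s = l' ≫ s := congrArg ULift.down h₂
      have : l ≫ ι = l' ≫ ι := pullback.hom_ext (by simpa [t] using e₁) (by simpa [s] using e₂)
      have : l = l' := Over.OverMorphism.ext ((cancel_mono ι.left).1 congr(($this).left))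
      rw [this]
    · rintro ⟨l₁⟩ ⟨l₂⟩ h
      rw [hπ, hπ] at h
      have hlc : l₁ ≫ c = l₂ ≫ c := by
        rw [map_mkElt a sq c Z₀ l₁ _ rfl, map_mkElt a sq c Z₀ l₂ _ rfl] at h
        exact (mkElt_injective a sq h).1
      let m := pullback.lift l₁ l₂ hlc
      have hm := (hrel m).1 (by rw [pullback.lift_fst, pullback.lift_snd]; exact h)
      let r : T'.unop ⟶ R := Over.homMk (IsOpenImmersion.lift ι.left m.left (by
        refine hm.trans ?_
        intro x hx
        exact ⟨⟨x, hx⟩, rfl⟩)) (by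
          change IsOpenImmersion.lift ι.left m.left _ ≫ ι.left ≫ CC.hom = _
          rw [IsOpenImmersion.lift_fac_assoc, Over.w])
      have hr : r ≫ ι = m := Over.OverMorphism.ext (IsOpenImmersion.lift_fac _ _ _)
      refine ⟨⟨r⟩, congrArg ULift.up ?_, congrArg ULift.up ?_⟩
      · change r ≫ t = l₁
        simp only [t, ← Category.assoc, hr, m, pullback.lift_fst]
      · change r ≫ s = l₂
        simp only [s, ← Category.assoc, hr, m, pullback.lift_snd]
  have hloc : Presheaf.IsLocallySurjective (Jet S) π := by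
    refine ⟨fun {T'} x => mem_Jet_of_forall fun t' => ?_⟩
    obtain ⟨k, Z', rfl⟩ := exists_mkElt a sq x
    obtain ⟨T'', e, l, b, h₁, h₂, he, ht', hkl, heq⟩ := hchart k Z' t'
    refine ⟨T'', e, he, ht', ⟨l⟩, ?_⟩
    rw [hπ]
    obtain rfl : b = (yon S).map (l ≫ c) ≫ a := by rw [← h₂, Functor.map_comp, Category.assoc]
    rw [map_mkElt a sq c Z₀ l _ rfl, map_mkElt a sq k Z' e _ hkl]
    exact congrArg _ heq.symm
  obtain ⟨hsh, hQA, hπe, hπs⟩ := exists_isAlgSpace_of_etale_chart (isSheaf_fibre a sq) sqR hloc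
  let Q' : Sp S := ⟨Q, hsh⟩
  let f : Q' ⟶ (yon S).obj T := ObjectProperty.homMk q₂
  let π' : (yon S).obj C ⟶ Q' := ObjectProperty.homMk π
  have hπf : π' ≫ f = (yon S).map c := ObjectProperty.hom_ext _ hπc
  have hlqf : LocP (@LocallyQuasiFinite ⊓ @LocallyOfFiniteType) f :=
    locP_of_source_cover hQA (IsAlgSpace.yon_obj T) hπe hπs (by
      rw [hπf]
      exact locP_of_repWith (repWith_map _ c ⟨locallyQuasiFinite_of_formallyUnramified _, inferInstance⟩))
  have hsep : IsSeparatedMor f := by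
    refine repWith_of_exists fun T' g => ?_
    let x₁ := pEquiv (g ≫ pullback.fst f f).hom
    let x₂ := pEquiv (g ≫ pullback.snd f f).hom
    obtain ⟨k, Z₁', hk₁⟩ := exists_mkElt a sq x₁
    obtain ⟨k', Z₂', hk₂⟩ := exists_mkElt a sq x₂
    obtain rfl : k = k' := by
      have e : (g ≫ pullback.fst f f ≫ f).hom = (g ≫ pullback.snd f f ≫ f).hom := by rw [pullback.condition]
      have e₁ : q₂.app _ x₁ = q₂.app _ x₂ := congrArg pEquiv e
      rw [hk₁, hk₂, mkElt_snd, mkElt_snd] at e₁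
      exact congrArg ULift.down e₁
    let E := agree Z₁'.2 Z₂'.2
    let V : Over S := Over.mk (E.ι ≫ T'.hom)
    let j : V ⟶ T' := Over.homMk E.ι rfl
    have hjr : Set.range j.left ⊆ (E : Set T'.left) := by
      rintro _ ⟨x, rfl⟩
      exact x.2
    have hx : ∀ {T'' : Over S} (l : T'' ⟶ T'),
        (g ≫ pullback.fst f f).hom.app (op T'') ⟨l⟩ = Q.map l.op (mkElt a sq k Z₁') ∧
        (g ≫ pullback.snd f f).hom.app (op T'') ⟨l⟩ = Q.map l.op (mkElt a sq k Z₂') := fun l => by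
      rw [← hk₁, ← hk₂]
      exact ⟨app_eq_map _ l, app_eq_map _ l⟩
    refine ⟨V, (yon S).map j ≫ g ≫ pullback.fst f f, j, ?_, ?_⟩
    · refine IsPullback.of_map_of_faithful (sheafToPresheaf (J S) (Type (u + 1))) ?_
      have sqff := fun (T'' : (Over S)ᵒᵖ) => (Types.isPullback_iff _ _ _ _).1
        (((IsPullback.of_hasPullback f f).map (sheafToPresheaf (J S) (Type (u + 1)))).map
          ((evaluation _ _).obj T''))
      refine IsPullback.of_forall_isPullback_app fun T'' => (Types.isPullback_iff _ _ _ _).2 ⟨?_, ?_, ?_⟩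
      · ext ⟨l⟩
        refine (sqff T'').2.1 _ _ ⟨?_, ?_⟩
        · exact congr(($(pullback.diagonal_fst f)).hom.app T'' _).trans rfl
        · refine congr(($(pullback.diagonal_snd f)).hom.app T'' _).trans ?_
          change (g ≫ pullback.fst f f).hom.app _ ⟨l ≫ j⟩ = (g ≫ pullback.snd f f).hom.app _ ⟨l ≫ j⟩
          rw [(hx (l ≫ j)).1, (hx (l ≫ j)).2, map_mkElt_eq_iff]
          rintro _ ⟨y, rfl⟩
          exact hjr ⟨l.left y, rfl⟩
      · rintro ⟨l⟩ ⟨l'⟩ ⟨-, h₂⟩
        have e : l.left ≫ j.left = l'.left ≫ j.left := congr(($(congrArg ULift.down h₂)).left)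
        have : l = l' := Over.OverMorphism.ext ((cancel_mono E.ι).1 e)
        rw [this]
      · rintro x ⟨l⟩ h
        have e₁ : x = (g ≫ pullback.fst f f).hom.app T'' ⟨l⟩ :=
          (congr(($(pullback.diagonal_fst f)).hom.app T'' x).symm.trans
            (congrArg ((pullback.fst f f).hom.app T'') h))
        have e₂ : x = (g ≫ pullback.snd f f).hom.app T'' ⟨l⟩ :=
          (congr(($(pullback.diagonal_snd f)).hom.app T'' x).symm.trans
            (congrArg ((pullback.snd f f).hom.app T'') h))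
        have hl : Set.range l.left ⊆ E :=
          (map_mkElt_eq_iff a sq Z₁' Z₂' l).1 ((hx l).1.symm.trans (e₁.symm.trans (e₂.trans (hx l).2)))
        let r : T''.unop ⟶ V := Over.homMk (IsOpenImmersion.lift E.ι l.left ((Scheme.Opens.range_ι E).symm ▸ hl)) (by
          change IsOpenImmersion.lift E.ι l.left _ ≫ E.ι ≫ T'.hom = _
          rw [IsOpenImmersion.lift_fac_assoc, Over.w])
        have hr : r ≫ j = l := Over.OverMorphism.ext (IsOpenImmersion.lift_fac _ _ _)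
        refine ⟨⟨r⟩, ?_, congrArg ULift.up hr⟩
        change (g ≫ pullback.fst f f).hom.app T'' ⟨r ≫ j⟩ = x
        rw [hr]
        exact e₁.symm
    · exact IsClosedImmersion.of_isPreimmersion E.ι (by simpa using isClosed_agree Z₁'.2 Z₂'.2)
  obtain ⟨G, ⟨e⟩⟩ := exists_iso_of_separated_lqf hQA hlqf hsep
  obtain ⟨ĝ, hĝ⟩ := (yon S).map_surjective (e.hom ≫ f)
  let eP := (sheafToPresheaf (J S) (Type (u + 1))).mapIso e
  have sqG : IsPullback (e.hom.hom ≫ q₁) ((pyon S).map ĝ) (piecesMap hp) a.hom :=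
    sq.of_iso eP.symm (Iso.refl _) (Iso.refl _) (Iso.refl _) (by simp [eP]) (by
      have := congrArg (·.hom) hĝ
      simp only [eP]
      rw [show (pyon S).map ĝ = ((yon S).map ĝ).hom from rfl, hĝ]
      simp [f]) (by simp) (by simp)
  obtain ⟨ρ, hρ⟩ := (yon S).map_surjective (π' ≫ e.inv)
  have hρc : ρ ≫ ĝ = c := (yon S).map_injective (by
    rw [Functor.map_comp, hρ, hĝ, Category.assoc, e.inv_hom_id_assoc, hπf])
  have : Etale ρ.left := (repWith_yon_map_iff _ ρ).1 (hρ ▸ repWith_comp hπe (repWith_isIso _))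
  have : Surjective ρ.left := (repWith_yon_map_iff _ ρ).1 (hρ ▸ repWith_comp hπs (repWith_isIso _))
  have hĝe : Etale ĝ.left := by
    have : Etale (ρ.left ≫ ĝ.left) := by rw [← Over.comp_left, hρc]; exact hc
    exact SourceDescent.etale_of_comp_surjective ρ.left ĝ.left
  refine ⟨G, e.hom.hom ≫ q₁, ĝ, hĝe, ?_, sqG⟩
  have hĝsep : IsSeparatedMor ((yon S).map ĝ) := by
    rw [hĝ]
    let cmap : pullback (e.hom ≫ f) (e.hom ≫ f) ⟶ pullback f f :=
      pullback.map _ _ _ _ e.hom e.hom (𝟙 _) (by simp) (by simp)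
    refine repWith_of_isPullback (a := e.hom) (b := cmap) ?_ hsep
    have : IsIso cmap := inferInstance
    exact IsPullback.of_horiz_isIso ⟨by
      apply pullback.hom_ext <;> simp [cmap]⟩
  exact (isSeparatedMor_yon_map_iff ĝ).1 hĝsep

end Groth.FppfBoot
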