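import Groth.Agent.FppfBoot.PieceCover
import Groth.Agent.AlgSpBasic.FiniteEtaleQuotOrbits
import Groth.Agent.S0411

/-!
# The sheaf of pieces of a chart is a scheme
-/

set_option autoImplicit false
set_option backward.isDefEq.respectTransparency false
set_option backward.isDefEq.respectTransparency.types false

universe u

open CategoryTheory CategoryTheory.Limits AlgebraicGeometry Opposite AlgSp

noncomputable section

namespace Groth.FppfBoot

open Groth.AlgSpBasic Groth.AlgSpBoot

variable {S : Scheme.{u}}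

/-- A sheaf with a finite locally free cover by a scheme all of whose orbits lie inside affine opens
is a scheme. -/
theorem exists_iso_of_finite_flat_orbits {X : Sp S} {R V : Over S} {t s : R ⟶ V}
    {p : (yon S).obj V ⟶ X} (hf : RepWith @Flat p) (hlf : RepWith @LocallyOfFinitePresentation p)
    (hs : RepWith @Surjective p)
    (sq : IsPullback ((yon S).map t) ((yon S).map s) p p) [IsFinite s.left]
    (horb : ∀ x : ↥V.left, ∃ A : V.left.Opens, IsAffineOpen A ∧
      t.left '' (s.left ⁻¹' {x}) ⊆ (A : Set ↥V.left)) :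
    ∃ Y : Over S, Nonempty ((yon S).obj Y ≅ X) := by
  have hsflat : Flat s.left := repWith_fst_of_isPullback sq hf
  have hslfp : LocallyOfFinitePresentation s.left := repWith_fst_of_isPullback sq hlf
  have hR := isEqvRel_of_isPullback sq
  have hj : ∀ {T : Scheme.{u}} {a b : T ⟶ R.left}, a ≫ t.left = b ≫ t.left →
      a ≫ s.left = b ≫ s.left → a = b := by
    intro T a b ht hs'
    have hb : b ≫ R.hom = a ≫ R.hom := by
      rw [← Over.w t, ← Category.assoc, ← ht, Category.assoc]
    exact congrArg CommaMorphism.left (hR.injective (Over.mk (a ≫ R.hom))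
      (Over.homMk a rfl) (Over.homMk b hb)
      (by ext1; exact ht) (by ext1; exact hs'))
  -- identity, inverse, composition
  obtain ⟨e, he₁, he₂⟩ := ((hR.equivalence V).refl (𝟙 V))
  obtain ⟨i, hi₁, hi₂⟩ := ((hR.equivalence R).symm ⟨𝟙 R, Category.id_comp t, Category.id_comp s⟩)
  let C : Over S := Over.mk (pullback.fst s.left t.left ≫ R.hom)
  let c₁ : C ⟶ R := Over.homMk (pullback.fst s.left t.left) rfl
  let c₂ : C ⟶ R := Over.homMk (pullback.snd s.left t.left) (by
    change _ = pullback.fst s.left t.left ≫ R.hom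
    conv_lhs => rw [← Over.w t]
    conv_rhs => rw [← Over.w s]
    rw [← Category.assoc, ← pullback.condition, Category.assoc])
  have hc : c₁ ≫ s = c₂ ≫ t := by ext1; exact pullback.condition
  obtain ⟨c, hc₁, hc₂⟩ := ((hR.equivalence C).trans (x := c₁ ≫ t) (y := c₁ ≫ s) (z := c₂ ≫ s)
    ⟨c₁, rfl, rfl⟩ ⟨c₂, hc.symm, rfl⟩)
  let G : Grpd.GroupoidScheme S := GrpdBasic.ofMono V.hom R.hom s.left t.left (Over.w s) (Over.w t)
    hj e.left i.left c.left (by rw [← Over.comp_left, he₂]; rfl) (by rw [← Over.comp_left, he₁]; rfl)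
    (by rw [← Over.comp_left, hi₂]) (by rw [← Over.comp_left, hi₁])
    (by rw [← Over.comp_left, hc₂]; rfl) (by rw [← Over.comp_left, hc₁]; rfl)
  have : IsFinite G.s := ‹IsFinite s.left›
  have : Flat G.s := hsflat
  have : LocallyOfFinitePresentation G.s := hslfp
  have : Mono G.j := GrpdBasic.mono_j_of_hom_ext G hj
  have hb : Groth.GrpdQuotient.OrbitsInAffine G := horb
  obtain ⟨hfin, hflat, hlfp⟩ := Groth.GrpdQuotient.finLocFree hb
  have hpb := Groth.GrpdQuotient.isPullback hb
  let q₀ : V.left ⟶ Groth.GrpdQuotient.quotient G := Groth.GrpdQuotient.p hb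
  have hsurj : Surjective q₀ := ⟨(Groth.GrpdQuotient.isQuot hb).surj⟩
  have hV : ∀ {Z : Scheme.{u}} (g₁ g₂ : Z ⟶ G.U), g₁ ≫ q₀ = g₂ ≫ q₀ →
      g₁ ≫ V.hom = g₂ ≫ V.hom := fun g₁ g₂ h => by
    rw [← hpb.lift_fst g₁ g₂ h]
    conv_rhs => rw [← hpb.lift_snd g₁ g₂ h]
    rw [Category.assoc, Category.assoc]
    exact congrArg _ ((Over.w t).trans (Over.w s).symm)
  let Y : Over S := Over.mk (EffectiveEpi.desc q₀ V.hom hV)
  let q : V ⟶ Y := Over.homMk q₀ (EffectiveEpi.fac q₀ V.hom hV)
  have : IsFinite q.left := hfin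
  have : Flat q.left := hflat
  have : LocallyOfFinitePresentation q.left := hlfp
  have : Surjective q.left := hsurj
  have hq : IsPullback t s q q :=
    IsPullback.of_map (Over.forget S) (by ext1; exact hpb.w) hpb
  have : Sheaf.IsLocallySurjective ((yon S).map q) := isLocallySurjective_of_repWith _
    ((repWith_yon_map_iff _ q).2 ‹Flat q.left›)
    ((repWith_yon_map_iff _ q).2 ‹LocallyOfFinitePresentation q.left›)
    ((repWith_yon_map_iff _ q).2 ‹Surjective q.left›)
  have : Sheaf.IsLocallySurjective p := isLocallySurjective_of_repWith p hf hlf hs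
  obtain ⟨h₁⟩ := isColimit_of_isLocallySurjective (hq.map (yon S))
  obtain ⟨h₂⟩ := isColimit_of_isLocallySurjective sq
  exact ⟨Y, ⟨h₁.coconePointUniqueUpToIso h₂⟩⟩

variable {F : Sp S} {W : Over S} {p : (yon S).obj W ⟶ F}
  (hp : RepWith (@Flat ⊓ @LocallyOfFinitePresentation) p) [IsAffine W.left]
  (hq : RepWith @LocallyQuasiFinite p)

include hq in
/-- The sheaf of pieces of a chart is a scheme. -/
theorem exists_iso_piecesSp : ∃ Y : Over S, Nonempty ((yon S).obj Y ≅ piecesSp hp hq) := by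
  obtain ⟨P, f, φ, hsep, hlqf, hlft, hφ⟩ := exists_finLocFree_cover hp hq
  have hfin : RepWith @IsFinite φ := repWith_mono (fun _ _ _ h => h.1.1.1) hφ
  obtain ⟨R, t, s, sq⟩ := exists_pullback_yon hφ.rep φ
  have : IsFinite s.left := repWith_fst_of_isPullback sq hfin
  refine exists_iso_of_finite_flat_orbits (repWith_mono (fun _ _ _ h => h.1.1.2) hφ)
    (repWith_mono (fun _ _ _ h => h.1.2) hφ) (repWith_mono (fun _ _ _ h => h.2) hφ) sq fun x => ?_
  have hx : (t.left '' (s.left ⁻¹' {x})).Finite :=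
    (s.left.finite_preimage_singleton x).image _
  obtain ⟨A, hA, hxA⟩ := Groth.Agent.S0411.result f.left hx.toFinset
  exact ⟨A, hA, fun y hy => hxA y (hx.mem_toFinset.2 hy)⟩

include hq in
/-- A flat, locally finitely presented, locally quasi-finite affine chart produces an etale map from
a scheme covering the image of the chart. -/
theorem exists_etale_of_chart :
    ∃ (Y : Over S) (π : (yon S).obj Y ⟶ F), RepWith @Etale π ∧
      ∀ {T : Over S} (a : (yon S).obj T ⟶ F) (r : ↥(Rp hp a).left),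
        ∃ (T' : Over S) (k : T' ⟶ T) (t' : ↥T'.left) (y : T' ⟶ Y),
          k.left t' = rsnd hp a r ∧ (yon S).map y ≫ π = (yon S).map k ≫ a := by
  obtain ⟨Y, ⟨e⟩⟩ := exists_iso_piecesSp hp hq
  refine ⟨Y, e.hom ≫ piecesπ hp hq, repWith_comp (repWith_isIso _) (repWith_etale_piecesπ hp hq),
    fun {T} a r => ?_⟩
  obtain ⟨T', k, t', hk, ⟨Z⟩⟩ := exists_piece_near hp hq a r
  let x : (pieces hp).obj (op T') := ⟨(yon S).map k ≫ a, Z⟩
  let m : (yon S).obj T' ⟶ piecesSp hp hq := ObjectProperty.homMk (pEquiv.symm x)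
  obtain ⟨y, hy⟩ := (yon S).map_surjective (m ≫ e.inv)
  refine ⟨T', k, t', y, hk, ?_⟩
  rw [hy, Category.assoc, Iso.inv_hom_id_assoc]
  apply ObjectProperty.hom_ext
  apply pEquiv.injective
  have h₁ : pEquiv (m ≫ piecesπ hp hq).hom = (piecesMap hp).app (op T') x :=
    congrArg ((piecesMap hp).app (op T')) (pEquiv.apply_symm_apply x)
  rw [h₁]
  refine ((piecesMap_eq_iff a k x).2 rfl).trans ?_
  simp [pEquiv, uliftYonedaEquiv]
  rfl

end Groth.FppfBoot
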