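import Mathlib

/-!
# An element to slice with

The algebra behind slicing a flat cover: on a finite type algebra over a field which is a
monomorphism relative to a ring `Γ`, either some point is isolated or some element of `Γ` is a
non-zero-divisor near a point at which it vanishes.
-/

set_option autoImplicit false

universe u

open Polynomial

namespace Groth.FppfBoot

/-- A sequence of monic polynomials in pairwise coprime position. -/
noncomputable def euclidSeq : ℕ → ℤ[X]
  | 0 => X
  | n + 1 => euclidSeq n * (euclidSeq n + 1)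

theorem euclidSeq_monic : ∀ n, (euclidSeq n).Monic ∧ 0 < (euclidSeq n).natDegree
  | 0 => ⟨monic_X, by simp [euclidSeq]⟩
  | n + 1 => by
    obtain ⟨hm, hd⟩ := euclidSeq_monic n
    have hlt : (1 : ℤ[X]).degree < (euclidSeq n).degree := by
      rw [degree_one]; exact natDegree_pos_iff_degree_pos.mp hd
    have hm' : (euclidSeq n + 1).Monic := hm.add_of_left hlt
    refine ⟨hm.mul hm', ?_⟩
    rw [euclidSeq, hm.natDegree_mul hm']
    omega

theorem euclidSeq_add_one_monic (n : ℕ) :
    (euclidSeq n + 1).Monic ∧ 0 < (euclidSeq n + 1).natDegree := by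
  obtain ⟨hm, hd⟩ := euclidSeq_monic n
  have hlt : (1 : ℤ[X]).degree < (euclidSeq n).degree := by
    rw [degree_one]; exact natDegree_pos_iff_degree_pos.mp hd
  exact ⟨hm.add_of_left hlt, by rw [← map_one (C : ℤ →+* ℤ[X]), natDegree_add_C]; exact hd⟩

theorem euclidSeq_dvd {i j : ℕ} (h : i < j) : euclidSeq i + 1 ∣ euclidSeq j := by
  induction j with
  | zero => omega
  | succ j ih =>
    rcases Nat.lt_succ_iff_lt_or_eq.mp h with h | rfl
    · exact (ih h).trans (Dvd.intro _ rfl)
    · exact Dvd.intro_left _ rfl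

/-- An element of a domain of finite type over a field all whose integral polynomial expressions
are zero or invertible is algebraic. -/
theorem isAlgebraic_of_zero_or_unit {K D : Type*} [Field K] [CommRing D] [IsDomain D] [Algebra K D]
    [Algebra.FiniteType K D] (y : D) (h : ∀ q : ℤ[X], eval₂ (Int.castRingHom D) y q = 0 ∨ IsUnit (eval₂ (Int.castRingHom D) y q)) :
    IsAlgebraic K y := by
  by_contra hy
  have hinj : Function.Injective (aeval (R := K) y) := transcendental_iff_injective.mp hy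
  algebraize [(aeval (R := K) y).toRingHom]
  have : IsScalarTower K K[X] D :=
    IsScalarTower.of_algebraMap_eq fun c => ((aeval (R := K) y).commutes c).symm
  have : FaithfulSMul K[X] D := (faithfulSMul_iff_algebraMap_injective _ _).mpr hinj
  have : Algebra.FiniteType K[X] D := Algebra.FiniteType.of_restrictScalars_finiteType K K[X] D
  have : Algebra.FinitePresentation K[X] D := Algebra.FinitePresentation.of_finiteType.mp ‹_›
  have hopen : IsOpen (Set.range (PrimeSpectrum.comap (algebraMap K[X] D))) :=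
    (PrimeSpectrum.isOpenMap_comap_of_hasGoingDown_of_finitePresentation).isOpen_range
  have hbot : PrimeSpectrum.comap (algebraMap K[X] D) ⟨⊥, Ideal.isPrime_bot⟩ ∈
      Set.range (PrimeSpectrum.comap (algebraMap K[X] D)) := Set.mem_range_self _
  obtain ⟨_, ⟨_, ⟨h', rfl⟩, rfl⟩, hmem, hsub⟩ :=
    PrimeSpectrum.isBasis_basic_opens.exists_subset_of_mem_open hbot hopen
  have hne : h' ≠ 0 := fun h0 => by simp [h0] at hmem
  let q : ℕ → K[X] := fun n => (euclidSeq n + 1).map (Int.castRingHom K)
  have hdeg : ∀ n, ¬ IsUnit (q n) := fun n hu => by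
    have := natDegree_eq_zero_of_isUnit hu
    rw [(euclidSeq_add_one_monic n).1.natDegree_map] at this
    exact (euclidSeq_add_one_monic n).2.ne' this
  choose m hm hmq using fun n => Ideal.exists_le_maximal (Ideal.span {q n})
    (by rw [Ne, Ideal.span_singleton_eq_top]; exact hdeg n)
  have hminj : Function.Injective m := by
    intro i j hij
    by_contra hne'
    wlog hlt : i < j generalizing i j
    · exact this hij.symm (fun e => hne' e.symm) (by omega)
    have h1 : q j ∈ m j := hmq j (Ideal.mem_span_singleton_self _)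
    have h2 : (euclidSeq j).map (Int.castRingHom K) ∈ m j :=
      hij ▸ Ideal.mem_of_dvd _ (Polynomial.map_dvd _ (euclidSeq_dvd hlt))
        (hmq i (Ideal.mem_span_singleton_self _))
    refine (hm j).ne_top ((Ideal.eq_top_iff_one _).mpr ?_)
    have := (m j).sub_mem h1 h2
    simpa [q, Polynomial.map_add] using this
  have hfin : {I : Ideal K[X] | I.IsMaximal ∧ h' ∈ I}.Finite := by
    refine (Ideal.span {h'}).finite_minimalPrimes_of_isNoetherianRing.subset fun I hI => ⟨⟨hI.1.isPrime,
      (Ideal.span_singleton_le_iff_mem _).mpr hI.2⟩, fun J hJ hJI => ?_⟩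
    have : J ≠ ⊥ := fun e => hne (by simpa [e] using hJ.2)
    exact ((hJ.1.isMaximal this).eq_of_le hI.1.ne_top hJI).ge
  obtain ⟨n, hn⟩ : ∃ n, h' ∉ m n := by
    by_contra! hall
    exact (Set.infinite_range_of_injective hminj) (hfin.subset (by rintro _ ⟨n, rfl⟩; exact ⟨hm n, hall n⟩))
  obtain ⟨⟨Q, hQ⟩, hQe⟩ := hsub (show (⟨m n, (hm n).isPrime⟩ : PrimeSpectrum K[X]) ∈
    (PrimeSpectrum.basicOpen h' : Set (PrimeSpectrum K[X])) from hn)
  have hQm : Q.comap (algebraMap K[X] D) = m n := congrArg PrimeSpectrum.asIdeal hQe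
  have he : algebraMap K[X] D (q n) = eval₂ (Int.castRingHom D) y (euclidSeq n + 1) := by
    change aeval (R := K) y _ = _
    rw [aeval_def, eval₂_map]
    congr 1
    exact RingHom.ext_int _ _
  rcases h (euclidSeq n + 1) with h0 | h0
  · rw [← he] at h0
    have hq0 : q n = 0 := hinj (h0.trans (map_zero (aeval (R := K) y)).symm)
    exact ((euclidSeq_add_one_monic n).1.map (Int.castRingHom K)).ne_zero hq0
  · rw [← he] at h0
    exact hQ.ne_top (Ideal.eq_top_of_isUnit_mem _
      (show algebraMap K[X] D (q n) ∈ Q from (hQm ▸ hmq n (Ideal.mem_span_singleton_self _) :)) h0)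

set_option synthInstance.maxHeartbeats 400000 in
/-- The slicing alternative: an isolated point, or an element of `Γ` which is regular near a point at
which it vanishes and avoids the generic point there. -/
theorem isolated_or_exists_slice {K A Γ : Type u} [Field K] [CommRing A] [Nontrivial A] [Algebra K A]
    [Algebra.FiniteType K A] [CommRing Γ] (φ : Γ →+* A)
    (hmono : ∀ (Ω : Type u) [Field Ω] (a b : A →+* Ω),
      a.comp (algebraMap K A) = b.comp (algebraMap K A) → a.comp φ = b.comp φ → a = b) :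
    (∃ x : PrimeSpectrum A, IsOpen {x}) ∨
      ∃ (g : Γ) (f : A) (P Q : PrimeSpectrum A), f ∉ Q.asIdeal ∧ φ g ∈ Q.asIdeal ∧
        (∀ a : A, φ g * a = 0 → ∃ n : ℕ, f ^ n * a = 0) ∧
        ∀ R : PrimeSpectrum A, f ∉ R.asIdeal → φ g ∈ R.asIdeal → P < R := by
  classical
  have : IsNoetherianRing A := Algebra.FiniteType.isNoetherianRing K A
  obtain ⟨⟨P, hP⟩⟩ : Nonempty ↥(⊥ : Ideal A).minimalPrimes := Ideal.nonempty_minimalPrimes bot_ne_top
  have hPp : P.IsPrime := hP.1.1
  have hle : ∀ J : Ideal A, J.IsPrime → J ≤ P → J = P := fun J hJ hJP =>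
    le_antisymm hJP (hP.2 ⟨hJ, bot_le⟩ hJP)
  obtain ⟨f, hfP, hf⟩ : ∃ f ∉ P, ∀ J ∈ associatedPrimes A A, J ≠ P → f ∈ J := by
    let s := ((associatedPrimes.finite A A).toFinset).erase P
    have hs : ∀ J ∈ s, ∃ x ∈ J, x ∉ P := fun J hJ => SetLike.not_le_iff_exists.mp fun hJP => by
      obtain ⟨hJne, hJ⟩ := Finset.mem_erase.mp hJ
      exact hJne (hle J ((associatedPrimes.finite A A).mem_toFinset.mp hJ).isPrime hJP)
    choose x hx hxP using hs
    refine ⟨∏ J ∈ s.attach, x J.1 J.2, fun h => ?_, fun J hJ hJP => ?_⟩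
    · obtain ⟨J, -, hJ⟩ := hPp.prod_mem_iff.mp h
      exact hxP _ _ hJ
    · have : J ∈ s := Finset.mem_erase.mpr ⟨hJP, (associatedPrimes.finite A A).mem_toFinset.mpr hJ⟩
      exact Ideal.mem_of_dvd _ (Finset.dvd_prod_of_mem _ (Finset.mem_attach s ⟨J, this⟩)) (hx J this)
  have habove : ∀ R : PrimeSpectrum A, f ∉ R.asIdeal → P ≤ R.asIdeal := fun R hR => by
    obtain ⟨J, hJ, hJR⟩ := Ideal.exists_minimalPrimes_le (I := ⊥) (J := R.asIdeal) bot_le
    have hJa : J ∈ associatedPrimes A A := by
      refine Module.associatedPrimes.minimalPrimes_annihilator_subset_associatedPrimes A A ?_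
      rwa [(Module.annihilator_eq_bot).mpr inferInstance]
    by_contra hcon
    exact hR (hJR (hf J hJa fun e => hcon (e ▸ hJR)))
  have hreg : ∀ γ : A, γ ∉ P → ∀ a : A, γ * a = 0 → ∃ n : ℕ, f ^ n * a = 0 := by
    intro γ hγ a ha
    by_contra! hcon
    let c : ℕ →o Submodule A A := ⟨fun n => (⊥ : Submodule A A).colon {f ^ n * a}, fun n m hnm r hr => by
      obtain ⟨k, rfl⟩ := Nat.exists_eq_add_of_le hnm
      simp only [Submodule.mem_colon_singleton, Submodule.mem_bot, smul_eq_mul] at hr ⊢
      rw [pow_add, mul_comm (f ^ n) (f ^ k), mul_assoc, mul_left_comm, hr, mul_zero]⟩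
    obtain ⟨N, hN⟩ := monotone_stabilizes_iff_noetherian.mpr ‹IsNoetherianRing A› c
    let b := f ^ N * a
    have : Nontrivial (Ideal.span {b}) :=
      Submodule.nontrivial_iff_ne_bot.mpr (by simpa [b] using hcon N)
    obtain ⟨q, hq⟩ := associatedPrimes.nonempty A (Ideal.span {b})
    obtain ⟨hqp, z, hz⟩ := isAssociatedPrime_iff.mp hq
    obtain ⟨r, hr⟩ := Ideal.mem_span_singleton'.mp z.2
    have hmem : ∀ t, t ∈ q ↔ t * (r * b) = 0 := fun t => by
      rw [hz, Submodule.mem_colon_singleton, Submodule.mem_bot, ← Subtype.coe_inj, hr]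
      simp
    have hγq : γ ∈ q := (hmem γ).mpr (by
      rw [show γ * (r * b) = r * f ^ N * (γ * a) by simp only [b]; ring, ha, mul_zero])
    have hfq : f ∈ q := hf q (hq.map_of_injective (Submodule.subtype _) Subtype.val_injective)
      fun e => hγ (e ▸ hγq)
    have h1 : r ∈ c (N + 1) := by
      simp only [c, OrderHom.coe_mk, Submodule.mem_colon_singleton, Submodule.mem_bot, smul_eq_mul]
      rw [← (hmem f).mp hfq]
      ring
    rw [← hN (N + 1) (by omega)] at h1
    simp only [c, OrderHom.coe_mk, Submodule.mem_colon_singleton, Submodule.mem_bot, smul_eq_mul] at h1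
    refine hqp.ne_top ((Ideal.eq_top_iff_one q).mpr ((hmem 1).mpr ?_))
    rw [one_mul]
    exact h1
  by_cases hc : ∃ Q : PrimeSpectrum A, f ∉ Q.asIdeal ∧ ∃ g : Γ, φ g ∈ Q.asIdeal ∧ φ g ∉ P
  · obtain ⟨Q, hfQ, g, hgQ, hgP⟩ := hc
    exact .inr ⟨g, f, ⟨P, hPp⟩, Q, hfQ, hgQ, hreg _ hgP, fun R hfR hgR =>
      lt_of_le_of_ne (habove R hfR) fun e => hgP (by rw [← e] at hgR; exact hgR)⟩
  push Not at hc
  -- all primes in `D(f)` have the same trace on `Γ`
  let D := Localization.Away (Ideal.Quotient.mk P f)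
  have hf0 : Ideal.Quotient.mk P f ≠ 0 := by rwa [Ne, Ideal.Quotient.eq_zero_iff_mem]
  have : IsDomain D := IsLocalization.isDomain_localization
    (powers_le_nonZeroDivisors_of_noZeroDivisors hf0)
  have : IsScalarTower K (A ⧸ P) D := inferInstance
  have : Algebra.FiniteType (A ⧸ P) D := IsLocalization.finiteType_of_monoid_fg (Submonoid.powers (Ideal.Quotient.mk P f)) D
  have : Algebra.FiniteType K D := Algebra.FiniteType.trans (S := A ⧸ P) inferInstance ‹_›
  let π : A →+* D := (algebraMap (A ⧸ P) D).comp (Ideal.Quotient.mk P)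
  have hπK : π.comp (algebraMap K A) = algebraMap K D := by
    rw [IsScalarTower.algebraMap_eq K (A ⧸ P) D]
    rfl
  have hπf : IsUnit (π f) := IsLocalization.Away.algebraMap_isUnit (S := D) (Ideal.Quotient.mk P f)
  have hπP : ∀ a, π a = 0 ↔ a ∈ P := fun a => by
    rw [← Ideal.Quotient.eq_zero_iff_mem]
    exact map_eq_zero_iff _ (IsLocalization.injective D (powers_le_nonZeroDivisors_of_noZeroDivisors hf0))
  have hψ : ∀ γ : Γ, π (φ γ) = 0 ∨ IsUnit (π (φ γ)) := fun γ => by
    by_contra! hcon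
    obtain ⟨M, hM, hmem⟩ := exists_max_ideal_of_mem_nonunits hcon.2
    exact hcon.1 ((hπP _).mpr (hc ⟨M.comap π, Ideal.IsPrime.comap π⟩
      (fun h => hM.ne_top (Ideal.eq_top_of_isUnit_mem _ h hπf)) γ hmem))
  by_cases hD : IsField D
  · refine .inl ⟨⟨P, hPp⟩, ?_⟩
    convert (PrimeSpectrum.basicOpen f).2
    ext R
    refine ⟨fun e => by rw [Set.mem_singleton_iff] at e; subst e; exact hfP, fun hR => ?_⟩
    have hfR : f ∉ R.asIdeal := hR
    refine PrimeSpectrum.ext (le_antisymm (fun a ha => ?_) (habove R hfR))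
    by_contra haP
    obtain ⟨d, hd⟩ := hD.mul_inv_cancel (mt (hπP a).mp haP)
    obtain ⟨⟨e, s⟩, hes⟩ := IsLocalization.surj (Submonoid.powers (Ideal.Quotient.mk P f)) d
    obtain ⟨e, rfl⟩ := Ideal.Quotient.mk_surjective e
    obtain ⟨n, hn⟩ := s.2
    have : π (a * e) = π (f ^ n) := by
      rw [map_mul, show π e = algebraMap (A ⧸ P) D (Ideal.Quotient.mk P e) from rfl, ← hes, ← mul_assoc,
        hd, one_mul, ← hn]
      simp [π]
    rw [← sub_eq_zero, ← map_sub, hπP] at this
    exact hfR (R.2.mem_of_pow_mem n (by simpa using R.asIdeal.sub_mem (R.asIdeal.mul_mem_right e ha) (habove R hfR this)))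
  exfalso
  let E := Algebra.adjoin K (Set.range (π.comp φ))
  have hint : Algebra.IsIntegral K E := by
    refine Algebra.IsIntegral.adjoin ?_
    rintro _ ⟨γ, rfl⟩
    refine (isAlgebraic_of_zero_or_unit (π (φ γ)) fun q => ?_).isIntegral
    have : eval₂ (Int.castRingHom D) (π (φ γ)) q = π (φ (eval₂ (Int.castRingHom Γ) γ q)) := by
      induction q using Polynomial.induction_on' with
      | add q r hq hr => simp only [eval₂_add, map_add, hq, hr]
      | monomial n c => simp
    rw [this]
    exact hψ _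
  let : Field E := (isField_of_isIntegral_of_isField' (Field.toIsField K)).toField
  obtain ⟨M, hM⟩ := Ideal.exists_maximal D
  have hMne : M ≠ ⊥ := fun e => hD ⟨⟨0, 1, zero_ne_one⟩, mul_comm, fun {x} hx => by
    obtain ⟨y, hy⟩ := Ideal.span_singleton_eq_top.mp (hM.1.2 (Ideal.span {x})
      (e ▸ bot_lt_iff_ne_bot.mpr (mt Ideal.span_singleton_eq_bot.mp hx)))
    exact ⟨↑y⁻¹, by rw [← hy, Units.mul_inv]⟩⟩
  let := Ideal.Quotient.field M
  let Ω := AlgebraicClosure (FractionRing D)
  have : Module.Finite K (D ⧸ M) := finite_of_finite_type_of_isJacobsonRing K (D ⧸ M)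
  have : Algebra.IsAlgebraic E (D ⧸ M) := Algebra.IsAlgebraic.tower_top (K := K) E
  let v : D →+* Ω := (algebraMap (FractionRing D) Ω).comp (algebraMap D (FractionRing D))
  let : Algebra E Ω := (v.comp E.val.toRingHom).toAlgebra
  let l : (D ⧸ M) →ₐ[E] Ω := IsAlgClosed.lift
  let w : D →+* Ω := l.toRingHom.comp (Ideal.Quotient.mk M)
  have hE : ∀ e : E, w e = v e := fun e => l.commutes e
  have heq := hmono Ω (w.comp π) (v.comp π)
    (RingHom.ext fun c => hE ⟨π (algebraMap K A c), by
      rw [← RingHom.comp_apply, hπK]; exact Subalgebra.algebraMap_mem _ c⟩)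
    (RingHom.ext fun γ => hE ⟨π (φ γ), Algebra.subset_adjoin ⟨γ, rfl⟩⟩)
  have hwv : w = v := IsLocalization.ringHom_ext (Submonoid.powers (Ideal.Quotient.mk P f))
    (Ideal.Quotient.ringHom_ext heq)
  obtain ⟨d, hdM, hd0⟩ := Submodule.exists_mem_ne_zero_of_ne_bot hMne
  have : v d = 0 := by
    rw [← hwv]
    simp [w, Ideal.Quotient.eq_zero_iff_mem.mpr hdM]
  exact hd0 (((algebraMap (FractionRing D) Ω).injective.comp
    (IsFractionRing.injective D (FractionRing D))) (this.trans (map_zero v).symm))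

end Groth.FppfBoot
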