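import Groth.Agent.FppfBoot.SliceAlg
import Groth.Agent.Calg4.FibreSlice

/-!
# One slicing step over an arbitrary base ring
-/

set_option autoImplicit false
set_option backward.isDefEq.respectTransparency false
set_option backward.isDefEq.respectTransparency.types false

universe u

open TensorProduct

namespace Groth.FppfBoot

/-- An element which is regular up to powers of an element outside a prime is regular at the prime. -/
theorem isSMulRegular_localized {B N : Type u} [CommRing B] [AddCommGroup N] [Module B N] (a b : B)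
    (q : Ideal B) [q.IsPrime] (hb : b ∉ q) (h : ∀ z : N, a • z = 0 → ∃ n : ℕ, b ^ n • z = 0) :
    IsSMulRegular (LocalizedModule q.primeCompl N) a := by
  refine IsSMulRegular.of_right_eq_zero_of_smul fun x hx => ?_
  obtain ⟨⟨z, s⟩, rfl⟩ := IsLocalizedModule.mk'_surjective q.primeCompl
    (LocalizedModule.mkLinearMap q.primeCompl N) x
  dsimp only [Function.uncurry] at hx ⊢
  rw [← IsLocalizedModule.mk'_smul, IsLocalizedModule.mk'_eq_zero'] at hx
  obtain ⟨t, ht⟩ := hx
  obtain ⟨n, hn⟩ := h ((t : B) • z) (by rw [smul_comm]; exact ht)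
  rw [IsLocalizedModule.mk'_eq_zero']
  exact ⟨⟨b ^ n * t, q.primeCompl.mul_mem (pow_mem (show b ∈ q.primeCompl from hb) n) t.2⟩,
    by rw [Submonoid.mk_smul, mul_smul]; exact hn⟩

set_option maxHeartbeats 1000000 in
/-- The slicing step: on a flat, finitely presented algebra, mono relative to `Γ`, over a point `p` of
the base, either some point is quasi-finite, or some element of `Γ` cuts out a closed subscheme which
is flat at some point over `p` and does not contain the generic point there. -/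
theorem slice_step {A₀ B Γ : Type u} [CommRing A₀] [CommRing B] [Algebra A₀ B]
    [Algebra.FinitePresentation A₀ B] [Module.Flat A₀ B] [CommRing Γ] (ψ : Γ →+* B)
    (p : PrimeSpectrum A₀) (hne : ∃ q : PrimeSpectrum B, q.comap (algebraMap A₀ B) = p)
    (hmono : ∀ (Ω : Type u) [Field Ω] (a c : B →+* Ω),
      a.comp (algebraMap A₀ B) = c.comp (algebraMap A₀ B) → a.comp ψ = c.comp ψ → a = c) :
    (∃ q : PrimeSpectrum B, q.comap (algebraMap A₀ B) = p ∧ Algebra.QuasiFiniteAt A₀ q.asIdeal) ∨
      ∃ (g : Γ) (b : B) (P Q : PrimeSpectrum B), P.comap (algebraMap A₀ B) = p ∧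
        Q.comap (algebraMap A₀ B) = p ∧ b ∉ Q.asIdeal ∧ ψ g ∈ Q.asIdeal ∧
        Module.Flat A₀ (LocalizedModule Q.asIdeal.primeCompl
          (B ⧸ LinearMap.range (LinearMap.lsmul B B (ψ g)))) ∧
        ∀ R : PrimeSpectrum B, R.comap (algebraMap A₀ B) = p → b ∉ R.asIdeal → ψ g ∈ R.asIdeal →
          P < R := by
  let A := p.asIdeal.Fiber B
  let ι : B →+* A := (Algebra.TensorProduct.includeRight (R := A₀) (A := p.asIdeal.ResidueField)
    (B := B)).toRingHom
  let e := PrimeSpectrum.preimageOrderIsoFiber A₀ B p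
  have he : ∀ (x : PrimeSpectrum A) (y : B), y ∈ (e.symm x).1.asIdeal ↔ ι y ∈ x.asIdeal := fun _ _ => Iff.rfl
  obtain ⟨q₀, hq₀⟩ := hne
  have : Nontrivial A := PrimeSpectrum.nonempty_iff_nontrivial.mp ⟨e ⟨q₀, hq₀⟩⟩
  rcases isolated_or_exists_slice (K := p.asIdeal.ResidueField) (ι.comp ψ) (fun Ω _ a c h₁ h₂ => by
    have hK : ∀ k, a (algebraMap _ A k) = c (algebraMap _ A k) := fun k => RingHom.congr_fun h₁ k
    have hB : a.comp ι = c.comp ι := hmono Ω _ _
      (RingHom.ext fun r => by
        have : ι (algebraMap A₀ B r) = algebraMap p.asIdeal.ResidueField A (algebraMap A₀ _ r) := by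
          rw [← IsScalarTower.algebraMap_apply A₀ p.asIdeal.ResidueField A]
          exact Algebra.TensorProduct.includeRight.commutes r
        simp only [RingHom.comp_apply, this, hK]) h₂
    refine RingHom.ext fun z => ?_
    induction z using TensorProduct.induction_on with
    | zero => simp
    | add z w hz hw => rw [map_add, map_add, hz, hw]
    | tmul k y =>
      have : (k ⊗ₜ[A₀] y : A) = algebraMap p.asIdeal.ResidueField A k * ι y := by
        simp [ι, A, Algebra.TensorProduct.tmul_mul_tmul]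
      rw [this, map_mul, map_mul, hK]
      exact congrArg (_ * ·) (RingHom.congr_fun hB y)) with ⟨x, hx⟩ | ⟨g, f, P, Q, hfQ, hgQ, hreg, habove⟩
  · refine .inl ⟨(e.symm x).1, (e.symm x).2, Algebra.QuasiFiniteAt.of_isOpen_singleton_fiber _ ?_⟩
    let h := PrimeSpectrum.preimageHomeomorphFiber A₀ B p
    have hopen : IsOpen (X := PrimeSpectrum.comap (algebraMap A₀ B) ⁻¹' {p}) {h.symm x} := by
      rw [← Set.image_singleton, h.symm.isOpen_image]
      exact hx
    have aux : ∀ (p' : PrimeSpectrum A₀) (y : PrimeSpectrum.comap (algebraMap A₀ B) ⁻¹' {p'}),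
        IsOpen ({y} : Set (PrimeSpectrum.comap (algebraMap A₀ B) ⁻¹' {p'})) →
        IsOpen (X := PrimeSpectrum.comap (algebraMap A₀ B) ⁻¹' {y.1.comap (algebraMap A₀ B)})
          {⟨y.1, rfl⟩} := by
      rintro p' ⟨y, hy⟩ hopen'
      obtain rfl : y.comap (algebraMap A₀ B) = p' := hy
      exact hopen'
    exact aux p (h.symm x) hopen
  obtain ⟨r, hr, b, hb⟩ := Ideal.Fiber.exists_smul_eq_one_tmul p.asIdeal f
  have hu : IsUnit (algebraMap A₀ A r) := by
    rw [IsScalarTower.algebraMap_apply A₀ p.asIdeal.ResidueField A]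
    exact (IsUnit.mk0 _ (mt (Ideal.algebraMap_residueField_eq_zero).mp hr)).map _
  have hb' : ι b = algebraMap A₀ A r * f := by
    rw [← Algebra.smul_def, hb]
    rfl
  have hmem : ∀ R : PrimeSpectrum A, ι b ∈ R.asIdeal ↔ f ∈ R.asIdeal := fun R => by
    rw [hb', Ideal.unit_mul_mem_iff_mem _ hu]
  refine .inr ⟨g, b, (e.symm P).1, (e.symm Q).1, (e.symm P).2, (e.symm Q).2,
    fun h => hfQ ((hmem Q).mp ((he Q b).mp h)), (he Q _).mpr hgQ, ?_, fun R hR hbR hgR => ?_⟩
  · let q := (e.symm Q).1.asIdeal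
    have : Module.Flat B (LocalizedModule q.primeCompl B) :=
      (IsLocalization.flat (Localization.AtPrime q) q.primeCompl :)
    have : Module.Flat A₀ (LocalizedModule q.primeCompl B) := Module.Flat.trans A₀ B _
    refine (Groth.Calg4.slice (M := B) (ψ g) q ?_).2
    refine isSMulRegular_localized _ b q (fun h => hfQ ((hmem Q).mp ((he Q b).mp h))) fun z hz => ?_
    have hp : q.comap (algebraMap A₀ B) = p.asIdeal := congrArg PrimeSpectrum.asIdeal (e.symm Q).2
    have key : ∀ (p' : Ideal A₀) [p'.IsPrime], p' = p.asIdeal → ∀ z : B ⊗[A₀] p'.ResidueField,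
        ψ g • z = 0 → ∃ n : ℕ, b ^ n • z = 0 := by
      rintro _ _ rfl z hz
      let c := Algebra.TensorProduct.comm A₀ B p.asIdeal.ResidueField
      have hc : ∀ (y : B) (w : B ⊗[A₀] p.asIdeal.ResidueField), c (y • w) = ι y * c w := fun y w => by
        rw [Algebra.smul_def, map_mul]
        simp [c, ι]; rfl
      obtain ⟨n, hn⟩ := hreg (c z) (by rw [RingHom.comp_apply, ← hc, hz, map_zero])
      refine ⟨n, c.injective ?_⟩
      rw [hc, map_zero, map_pow, hb', mul_pow, mul_assoc, hn, mul_zero]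
    exact key _ hp z hz
  · have hR' : ∀ y, y ∈ R.asIdeal ↔ ι y ∈ (e ⟨R, hR⟩).asIdeal := fun y => by
      rw [← he, OrderIso.symm_apply_apply]
    have := habove (e ⟨R, hR⟩) (fun h => hbR ((hR' b).mpr ((hmem _).mpr h))) ((hR' _).mp hgR)
    exact Subtype.coe_lt_coe.mpr (show e.symm P < ⟨R, hR⟩ by rwa [e.symm_apply_lt])

end Groth.FppfBoot
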